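import Cfsg.Agent.KFacts.TwoSix.Aut

/-!
# `CC = 2^{1+6}:L3(2)`: the root involution `uu = x 1 3` outside `QQ`

* `aut_uu`: the class of `uu` in `CC` is invariant under all automorphisms of `CC`;
* `dc_R1`, `dc_R2`: elements of `R1`, `R2` centralising `C_CC(uu)`;
* `tauE`: the graph automorphism of `CC`; it fixes `uu`;
* `center_sylow`: `C_CC(S) = ⟨zz⟩` for a Sylow 2-subgroup `S` of `CC`.
-/

set_option autoImplicit false

namespace Cfsg.Agent.KFacts.TwoSix.U

open Matrix Cfsg.Agent.SporadicRecognition.HeldModel Cfsg.Agent.Held.AffineIso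
  Cfsg.Agent.KFacts.TwoSix.Base Cfsg.Agent.KFacts.TwoSix.Facts Cfsg.Agent.KFacts.TwoSix.Normal
  Cfsg.Agent.KFacts.TwoSix.Aut

/-- the graph automorphism of `CC` -/
def tauE : CC ≃* CC where
  toFun g := ⟨tau g, tau_mem_CC g.2⟩
  invFun g := ⟨tau g, tau_mem_CC g.2⟩
  left_inv _ := Subtype.ext (tau_tau _)
  right_inv _ := Subtype.ext (tau_tau _)
  map_mul' _ _ := Subtype.ext (map_mul tau _ _)

theorem coe_tauE (g : CC) : ((tauE g : CC) : L5) = tau g := rfl

theorem tauE_tauE (g : CC) : tauE (tauE g) = g := Subtype.ext (tau_tau _)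

/-- the root involution `x 1 3` -/
def uu : L5 := x 1 3

theorem x_mem {i j : Fin 5} (h : i ≠ j) (hj : j ≠ 0) (hi : i ≠ 4) : x i j h ∈ CC := by
  rw [mem_CC_iff_pat]
  intro k l hkl
  have h1 : ¬ (i = k ∧ j = l) := by
    rintro ⟨rfl, rfl⟩
    simp [PC, hj, hi] at hkl
  rw [Matrix.sub_apply, sub_eq_zero, coe_x, transvection_apply', Matrix.one_apply, if_neg h1,
    add_zero]

theorem uu_mem : uu ∈ CC := x_mem _ (by decide) (by decide)

theorem uu_sq : uu * uu = 1 := x_sq _ _ _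

theorem uu_notMem : uu ∉ QQ := by
  intro h
  have h1 := h 1 3 (by decide)
  rw [Matrix.sub_apply, sub_eq_zero] at h1
  revert h1
  rw [uu, coe_x, transvection_apply', Matrix.one_apply]
  decide

theorem tau_uu : tau uu = uu := tau_x 1 3 (by decide)

/-- `uu` in `CC` -/
def uC : CC := ⟨uu, uu_mem⟩

theorem tauE_uC : tauE uC = uC := Subtype.ext tau_uu

/-- **an automorphism swapping `R1` and `R2`** is the graph automorphism times an inner one -/
theorem aut_outer (b : CC ≃* CC) (h : ∀ e : CC, (e : L5) ∈ R1 → ((b e : CC) : L5) ∈ R2) :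
    ∃ p : CC, ∀ g, b g = p * tauE g * p⁻¹ := by
  obtain ⟨p, hp⟩ := aut_inner (b.trans tauE) (by
    intro e he
    exact tau_mem_R1 (h e he))
  refine ⟨tauE p, fun g => ?_⟩
  have h1 : tauE (b g) = p * g * p⁻¹ := hp g
  rw [← tauE_tauE (b g), h1, map_mul, map_mul, map_inv]

/-- **the class of `uu` is invariant under the automorphisms of `CC`** -/
theorem aut_uu (b : CC ≃* CC) : ∃ p : CC, b uC = p * uC * p⁻¹ := by
  rcases aut_cases b with h | h
  · obtain ⟨p, hp⟩ := aut_inner b h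
    exact ⟨p, hp uC⟩
  · obtain ⟨p, hp⟩ := aut_outer b h
    exact ⟨p, by rw [hp uC, tauE_uC]⟩

/-! ### Elements of `R1`, `R2` centralising `C(uu)` -/

theorem T_comm_uu {u φ : F4} (h : φ ⬝ᵥ u = 0) (h3 : u 3 = 0) (hφ : φ 0 = 0) (hu : u 2 = 0) :
    T u φ h * uu = uu * T u φ h := by
  have hl : low uu = 1 + Matrix.vecMulVec (Pi.single 0 1 : F4) (Pi.single 2 1 : F4) := by
    ext i j
    rw [low_apply, uu, coe_x, transvection_apply', Matrix.add_apply, Matrix.one_apply,
      Matrix.vecMulVec_apply, Pi.single_apply, Pi.single_apply]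
    revert i j; decide
  have ht : top uu = 0 := by
    funext j
    rw [top_apply, uu, coe_x, transvection_apply']
    revert j; decide
  have hT := T_mem h h3
  apply ext_CC (CC.mul_mem hT uu_mem) (CC.mul_mem uu_mem hT)
  · rw [top_mul hT uu_mem, top_mul uu_mem hT, ht, top_T, Matrix.zero_vecMul, Matrix.zero_vecMul]
  · have e1 : Matrix.vecMulVec u φ * Matrix.vecMulVec (Pi.single 0 1 : F4) (Pi.single 2 1 : F4) = 0 := by
      rw [Matrix.vecMulVec_mul_vecMulVec, dotProduct_single_one, hφ, zero_smul]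
      ext i j
      rw [Matrix.vecMulVec_apply, Pi.zero_apply, mul_zero]; rfl
    have e2 : Matrix.vecMulVec (Pi.single 0 1 : F4) (Pi.single 2 1 : F4) * Matrix.vecMulVec u φ = 0 := by
      rw [Matrix.vecMulVec_mul_vecMulVec, single_one_dotProduct, hu, zero_smul]
      ext i j
      rw [Matrix.vecMulVec_apply, Pi.zero_apply, mul_zero]; rfl
    rw [low_mul hT uu_mem, low_mul uu_mem hT, hl, low_T]
    have e3 : (1 + Matrix.vecMulVec u φ) *
        (1 + Matrix.vecMulVec (Pi.single 0 1 : F4) (Pi.single 2 1 : F4)) =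
        1 + Matrix.vecMulVec (Pi.single 0 1 : F4) (Pi.single 2 1 : F4) + Matrix.vecMulVec u φ := by
      rw [add_mul, one_mul, mul_add, mul_one, e1, add_zero]
    have e4 : (1 + Matrix.vecMulVec (Pi.single 0 1 : F4) (Pi.single 2 1 : F4)) *
        (1 + Matrix.vecMulVec u φ) =
        1 + Matrix.vecMulVec u φ + Matrix.vecMulVec (Pi.single 0 1 : F4) (Pi.single 2 1 : F4) := by
      rw [add_mul, one_mul, mul_add, mul_one, e2, add_zero]
    rw [e3, e4, add_right_comm]

theorem cases_f (f : F4) (h0 : f 0 = 0) (h1 : f 1 = 0) : f = 0 ∨ f = Pi.single 3 1 ∨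
    f = Pi.single 2 1 ∨ f = Pi.single 2 1 + Pi.single 3 1 := by
  revert f; decide

theorem x03_eq : x 0 3 = ro (Pi.single 2 1) := by
  apply ext_CC (x_mem _ (by decide) (by decide)) (ro_mem _)
  · rw [top_ro]
    funext j
    rw [top_apply, coe_x, transvection_apply', Pi.single_apply]
    revert j; decide
  · rw [low_ro]
    ext i j
    rw [low_apply, coe_x, transvection_apply', Matrix.one_apply]
    revert i j; decide

theorem comm_T {f u φ : F4} (h : φ ⬝ᵥ u = 0) (h3 : u 3 = 0) (hφ : φ ≠ 0)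
    (hc : ro f * T u φ h = T u φ h * ro f) : f ⬝ᵥ u = 0 := by
  have h1 := ro_T f h h3
  rw [mul_assoc, hc, inv_mul_cancel_left] at h1
  have h2 := ro_inj h1
  have h4 : (f ⬝ᵥ u) • φ = 0 := add_eq_left.1 h2.symm
  rcases zmod2_cases (f ⬝ᵥ u) with h5 | h5
  · exact h5
  · rw [h5, one_smul] at h4
    exact absurd h4 hφ

/-- elements of `R1` centralising `C_CC(uu)` -/
theorem dc_R1 {e : L5} (he : e ∈ R1) (h : ∀ c ∈ CC, c * uu = uu * c → e * c = c * e) :
    e = 1 ∨ e = zz ∨ e = x 0 3 ∨ e = x 0 3 * zz := by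
  obtain ⟨f, rfl⟩ := mem_R1_low'.1 he
  have a0 : (Pi.single 1 1 : F4) ⬝ᵥ Pi.single 0 1 = 0 := by decide
  have a1 : (Pi.single 2 1 : F4) ⬝ᵥ Pi.single 1 1 = 0 := by decide
  have h0 : f 0 = 0 := by
    have := comm_T a0 (by decide) (by decide)
      (h _ (T_mem a0 (by decide)) (T_comm_uu a0 (by decide) (by decide) (by decide)))
    rwa [dotProduct_single_one] at this
  have h1 : f 1 = 0 := by
    have := comm_T a1 (by decide) (by decide)
      (h _ (T_mem a1 (by decide)) (T_comm_uu a1 (by decide) (by decide) (by decide)))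
    rwa [dotProduct_single_one] at this
  rcases cases_f f h0 h1 with rfl | rfl | rfl | rfl
  · exact Or.inl ro_zero
  · exact Or.inr (Or.inl zz_eq.symm)
  · exact Or.inr (Or.inr (Or.inl x03_eq.symm))
  · refine Or.inr (Or.inr (Or.inr ?_))
    rw [ro_add, x03_eq, zz_eq]

/-- elements of `R2` centralising `C_CC(uu)` -/
theorem dc_R2 {e : L5} (he : e ∈ R2) (h : ∀ c ∈ CC, c * uu = uu * c → e * c = c * e) :
    e = 1 ∨ e = zz ∨ e = x 1 4 ∨ e = x 1 4 * zz := by
  have h1 := dc_R1 (tau_mem_R1 he) (by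
    intro c hc hcu
    have h2 := h (tau c) (tau_mem_CC hc) (by
      apply tau_inj
      rw [map_mul, map_mul, tau_tau, tau_uu]; exact hcu)
    have h3 := congrArg tau h2
    rwa [map_mul, map_mul, tau_tau] at h3)
  have h14 : tau (x 0 3) = x 1 4 := tau_x 0 3 (by decide)
  rcases h1 with h2 | h2 | h2 | h2
  · exact Or.inl (tau_inj (by rw [h2, map_one]))
  · exact Or.inr (Or.inl (tau_inj (by rw [h2, tau_zz])))
  · exact Or.inr (Or.inr (Or.inl (by rw [← tau_tau e, h2, h14])))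
  · exact Or.inr (Or.inr (Or.inr (by rw [← tau_tau e, h2, map_mul, h14, tau_zz])))

/-! ### Sylow -/

/-- the centraliser in `CC` of a Sylow 2-subgroup of `CC` -/
theorem center_sylow (S : Sylow 2 CC) (g : CC) (h : ∀ s ∈ (S : Subgroup CC), g * s = s * g) :
    g = 1 ∨ g = zC := by
  have : Fact (Nat.Prime 2) := ⟨Nat.prime_two⟩
  obtain ⟨P, hP⟩ := exists_sylow_CC
  obtain ⟨c, hc⟩ := MulAction.exists_smul_eq CC S P
  have h1 : ∀ t ∈ T0, ((c * g * c⁻¹ : CC) : L5) * t = t * ((c * g * c⁻¹ : CC) : L5) := by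
    intro t ht
    have htC : t ∈ CC := T0_le_CC ht
    have h2 : (⟨t, htC⟩ : CC) ∈ (P : Subgroup CC) := by rw [hP]; exact ht
    rw [← hc, Sylow.coe_subgroup_smul] at h2
    obtain ⟨s, hs, e⟩ := h2
    have e' : c * s * c⁻¹ = ⟨t, htC⟩ := e
    have h3 := h s hs
    have h4 : c * g * c⁻¹ * (c * s * c⁻¹) = c * s * c⁻¹ * (c * g * c⁻¹) := by
      calc c * g * c⁻¹ * (c * s * c⁻¹) = c * (g * s) * c⁻¹ := by group
        _ = c * (s * g) * c⁻¹ := by rw [h3]
        _ = c * s * c⁻¹ * (c * g * c⁻¹) := by group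
    rw [e'] at h4
    exact congrArg Subtype.val h4
  have hzc : ∀ y : CC, Commute zC y := fun y => Subtype.ext (zz_comm y.2).symm
  rcases centralizer_T0 (c * g * c⁻¹).2 h1 with h2 | h2
  · left
    have h3 : c * g * c⁻¹ = 1 := Subtype.ext h2
    have h4 : g = c⁻¹ * (c * g * c⁻¹) * c := by group
    rw [h4, h3]; group
  · right
    have h3 : c * g * c⁻¹ = zC := Subtype.ext h2
    have h4 : g = c⁻¹ * (c * g * c⁻¹) * c := by group
    rw [h4, h3, mul_assoc, (hzc c).eq]; group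

end Cfsg.Agent.KFacts.TwoSix.U
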