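import Cfsg.Agent.KFacts.TwoSix.SheetDef
import Cfsg.Agent.KFacts.TwoSix.U

/-!
# The sheet of `P = 2^{1+6}:L3(2)`

`sheet_L5 : Sheet zz CC QQ R1 R2`; for every injective `ι : CC →* G`: `sheet_of`; automorphisms induced by
elements of `G` normalising `ι.range`: `norm_cases`, `norm_uu`.
-/

set_option autoImplicit false

namespace Cfsg.Agent.KFacts.TwoSix.Sheet

open Matrix Cfsg.Agent.SporadicRecognition.HeldModel
  Cfsg.Agent.KFacts.TwoSix.Base Cfsg.Agent.KFacts.TwoSix.Facts Cfsg.Agent.KFacts.TwoSix.Normal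
  Cfsg.Agent.KFacts.TwoSix.Aut Cfsg.Agent.KFacts.TwoSix.U Cfsg.Agent.KFacts.TwoSix.SheetDef

theorem R1_ne : QQ ≠ R1 := by
  intro h
  have := card_QQ
  rw [h, card_R1] at this
  omega

theorem sum_four (f u : F4) : f ⬝ᵥ u = f 0 * u 0 + f 1 * u 1 + f 2 * u 2 + f 3 * u 3 := by
  rw [dotProduct, Fin.sum_univ_four]

theorem decomp_four (f : F4) : f = f 0 • Pi.single 0 1 + f 1 • Pi.single 1 1 + f 2 • Pi.single 2 1 +
    f 3 • Pi.single 3 1 := by
  funext j
  fin_cases j <;> simp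

/-- transvections on `R1` -/
theorem tv_R1 (V : Subgroup L5) (hV : IsHyp V R1) (hz : zz ∈ V) (a : L5) (ha : a ∈ V) :
    ∃ p ∈ CC, (∀ v ∈ V, p * v * p⁻¹ = v) ∧ ∀ v ∈ R1, v ∉ V → p * v * p⁻¹ = v * a := by
  classical
  let χ : F4 → ZMod 2 := fun f => if ro f ∈ V then 0 else 1
  have hχ0 : ∀ f, χ f = 0 ↔ ro f ∈ V := by
    intro f
    show (if ro f ∈ V then (0 : ZMod 2) else 1) = 0 ↔ _
    split_ifs with h
    · simp [h]
    · simp [h]
  have hadd : ∀ f g, χ (f + g) = χ f + χ g := by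
    intro f g
    have hf : χ f = 0 ∨ χ f = 1 := zmod2_cases _
    have hg : χ g = 0 ∨ χ g = 1 := zmod2_cases _
    rcases hf with hf | hf <;> rcases hg with hg | hg
    · rw [hf, hg, (hχ0 _).2 (by rw [ro_add]; exact V.mul_mem ((hχ0 f).1 hf) ((hχ0 g).1 hg))]
      decide
    · have h1 : ro (f + g) ∉ V := by
        rw [ro_add]
        intro h
        have := (V.mul_mem_cancel_left ((hχ0 f).1 hf)).1 h
        rw [← hχ0, hg] at this
        exact one_ne_zero this
      rw [hf, hg]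
      show (if ro (f + g) ∈ V then (0 : ZMod 2) else 1) = _
      rw [if_neg h1]; decide
    · have h1 : ro (f + g) ∉ V := by
        rw [ro_add]
        intro h
        have := (V.mul_mem_cancel_right ((hχ0 g).1 hg)).1 h
        rw [← hχ0, hf] at this
        exact one_ne_zero this
      rw [hf, hg]
      show (if ro (f + g) ∈ V then (0 : ZMod 2) else 1) = _
      rw [if_neg h1]; decide
    · have h1 : ro (f + g) ∈ V := by
        rw [ro_add]
        apply hV.mul _ (ro_mem_R1 f) _ _ (ro_mem_R1 g)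
        · intro h; rw [← hχ0, hg] at h; exact one_ne_zero h
        · intro h; rw [← hχ0, hf] at h; exact one_ne_zero h
      rw [hf, hg, (hχ0 _).2 h1]; decide
  have hsm : ∀ (c : ZMod 2) (f : F4), χ (c • f) = c * χ f := by
    intro c f
    rcases zmod2_cases c with rfl | rfl
    · rw [zero_smul, zero_mul, hχ0, ro_zero]; exact V.one_mem
    · rw [one_smul, one_mul]
  let u : F4 := fun j => χ (Pi.single j 1)
  have hu : ∀ f, f ⬝ᵥ u = χ f := by
    intro f
    rw [sum_four]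
    conv_rhs => rw [decomp_four f]
    rw [hadd, hadd, hadd, hsm, hsm, hsm, hsm]
  have hu3 : u 3 = 0 := by
    show χ (Pi.single 3 1) = 0
    rw [hχ0, ← zz_eq]; exact hz
  obtain ⟨φ, rfl⟩ := mem_R1_low'.1 (hV.le ha)
  have hφ : φ ⬝ᵥ u = 0 := by rw [hu, hχ0]; exact ha
  refine ⟨(T u φ hφ)⁻¹, CC.inv_mem (T_mem hφ hu3), ?_, ?_⟩
  · intro v hv
    obtain ⟨f, rfl⟩ := mem_R1_low'.1 (hV.le hv)
    rw [inv_inv, ro_T f hφ hu3, hu, (hχ0 f).2 hv, zero_smul, add_zero]
  · intro v hv hv'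
    obtain ⟨f, rfl⟩ := mem_R1_low'.1 hv
    have h1 : χ f = 1 := by
      rcases zmod2_cases (χ f) with h | h
      · exact absurd ((hχ0 f).1 h) hv'
      · exact h
    rw [inv_inv, ro_T f hφ hu3, hu, h1, one_smul, ro_add]

theorem half_R1 : Half zz CC QQ R1 where
  zE := zz_mem_R1
  ER := R1_le_QQ
  norE := fun p hp e he => norm_R1 hp he
  cardE := card_R1
  sqE := fun e he => sq_R1 he
  comE := fun e he e' he' => comm_R1 he he'
  ne := R1_ne
  cE := fun p hp h => cent_R1 hp h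
  qE := fun p hp h => cent_quot_R1 hp h
  tR := fun p hp h => cent_top hp h
  cenE := fun p hp h => cen_R1 hp h
  pair := fun a ha r hr => pair ha hr
  pairE := fun a ha h1 h2 => by
    obtain ⟨b, hb, e⟩ := pair_left ha h1 h2
    exact ⟨b, R2_le_QQ hb, e⟩
  pairR := fun r hr h => pair_right hr h
  trans := fun a ha h1 h2 b hb h3 h4 => trans_R1 ha h1 h2 hb h3 h4
  tv := fun V hV hz a ha => tv_R1 V hV hz a ha

/-- the graph automorphism restricted to `CC` -/
def tf : CC →* L5 := tau.comp CC.subtype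

theorem tf_inj : Function.Injective tf := fun _ _ h => Subtype.ext (tau_inj h)

theorem tf_range : tf.range = CC := by
  ext g
  constructor
  · rintro ⟨p, rfl⟩
    exact tau_mem_CC p.2
  · intro h
    exact ⟨⟨tau g, tau_mem_CC h⟩, tau_tau g⟩

theorem im_tf {X Y : Subgroup L5} (hX : X ≤ CC) (h1 : ∀ g ∈ X, tau g ∈ Y) (h2 : ∀ g ∈ Y, tau g ∈ X) :
    im tf X = Y := by
  ext g
  rw [mem_im]
  constructor
  · rintro ⟨p, hp, rfl⟩
    exact h1 _ hp
  · intro h
    exact ⟨⟨tau g, hX (h2 g h)⟩, h2 g h, tau_tau g⟩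

theorem half_R2 : Half zz CC QQ R2 := by
  have h := half_R1.im (mem_CC.2 rfl) QQ_le_CC tf_inj
  rw [tf_range, im_tf QQ_le_CC (fun _ h => tau_mem_QQ h) (fun _ h => tau_mem_QQ h),
    im_tf R1_le_CC (fun _ h => tau_mem_R2 h) (fun _ h => tau_mem_R1 h)] at h
  have e : tf ⟨zz, mem_CC.2 rfl⟩ = zz := tau_zz
  rwa [e] at h

/-- **the sheet of `CC`** -/
theorem sheet_L5 : Sheet zz CC QQ R1 R2 where
  z1 := zz_ne_one
  zz := zz_sq
  cz := fun p hp => zz_comm hp
  cardP := card_CC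
  perf := perf
  RP := QQ_le_CC
  cardR := card_QQ
  norR := fun p hp r hr => norm_QQ hp hr
  h1 := half_R1
  h2 := half_R2
  inter := fun x h h' => inter h h'
  mul := fun r hr => exists_mul' hr
  comR := by
    intro r hr s hs
    obtain ⟨a, ha, b, hb, rfl⟩ := exists_mul' hr
    have e : a * b * s * (a * b)⁻¹ * s⁻¹ = a * (b * s * b⁻¹ * s⁻¹) * a⁻¹ * (a * s * a⁻¹ * s⁻¹) := by
      group
    have h1 := half_R1.pair a ha s hs
    have h2 := half_R2.pair b hb s hs
    have hza : a * zz * a⁻¹ = zz := by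
      rw [zz_comm (R1_le_CC ha)]; group
    rw [e]
    rcases h2 with h2 | h2
    · rw [h2, mul_one, mul_inv_cancel, one_mul]; exact h1
    · rw [h2, hza]
      rcases h1 with h1 | h1
      · rw [h1, mul_one]; exact Or.inr rfl
      · rw [h1, zz_sq]; exact Or.inl rfl
  sqR := by
    intro r hr
    obtain ⟨a, ha, b, hb, rfl⟩ := exists_mul' hr
    have ea : a⁻¹ = a := inv_eq_of_mul_eq_one_left (sq_R1 ha)
    have eb : b⁻¹ = b := inv_eq_of_mul_eq_one_left (sq_R2 hb)
    have h1 := half_R1.pair a ha b (R2_le_QQ hb)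
    rw [ea, eb, mul_assoc (a * b)] at h1
    exact h1
  cR := fun p hp h => cent_QQ hp h
  cenR := fun p hp h => cen_QQ hp h
  core := fun Y hY h2 hn => core hY h2 hn
  sub := fun Y hY hn => normal_cases hY hn
  syl := by
    intro S hS h2 hodd p hp h
    have : Fact (Nat.Prime 2) := ⟨Nat.prime_two⟩
    have h3 : IsPGroup 2 (S.subgroupOf CC) := h2.of_equiv (Subgroup.subgroupOfEquivOfLe hS).symm
    have h4 := center_sylow (h3.toSylow hodd) ⟨p, hp⟩ (by
      intro s hs
      exact Subtype.ext (h s hs))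
    rcases h4 with h4 | h4
    · exact Or.inl (congrArg Subtype.val h4)
    · exact Or.inr (congrArg Subtype.val h4)

section
variable {G : Type*} [Group G] {ι : CC →* G}

/-- **the sheet of `P = ι(CC)`** -/
theorem sheet_of (hι : Function.Injective ι) :
    Sheet (ι zC) ι.range (im ι QQ) (im ι R1) (im ι R2) := sheet_L5.im hι

/-- the automorphism of `CC` induced by an element of `G` normalising `ι.range` -/
theorem exists_aut (hι : Function.Injective ι) {x : G}
    (hx : ∀ p : CC, x * ι p * x⁻¹ ∈ ι.range) : ∃ b : CC ≃* CC, ∀ p, ι (b p) = x * ι p * x⁻¹ := by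
  choose b hb using hx
  have hm : ∀ p q, b (p * q) = b p * b q := by
    intro p q
    apply hι
    rw [map_mul, hb, hb, hb, map_mul]; group
  have hinj : Function.Injective b := by
    intro p q h
    apply hι
    have h1 := congrArg ι h
    rw [hb, hb] at h1
    exact mul_left_cancel (mul_right_cancel h1)
  have hbij : Function.Bijective b := Finite.injective_iff_bijective.1 hinj
  exact ⟨MulEquiv.ofBijective (MonoidHom.mk' b hm) hbij, hb⟩

/-- **an element `x` normalising `P = ι(CC)` acts on `P` as an element of `P` or swaps `E1`, `E2`** -/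
theorem norm_cases (hι : Function.Injective ι) {x : G} (hx : ∀ p : CC, x * ι p * x⁻¹ ∈ ι.range) :
    (∃ p ∈ ι.range, ∀ q ∈ ι.range, x * q * x⁻¹ = p * q * p⁻¹) ∨
    ((∃ p : CC, ∀ q : CC, x * ι q * x⁻¹ = ι p * ι (tauE q) * (ι p)⁻¹) ∧
      ∀ e ∈ im ι R1, x * e * x⁻¹ ∈ im ι R2) := by
  obtain ⟨b, hb⟩ := exists_aut hι hx
  rcases aut_cases b with h | h
  · left
    obtain ⟨p, hp⟩ := aut_inner b h
    refine ⟨ι p, ⟨p, rfl⟩, ?_⟩
    rintro _ ⟨q, rfl⟩
    rw [← hb, hp, map_mul, map_mul, map_inv]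
  · right
    obtain ⟨p, hp⟩ := aut_outer b h
    refine ⟨⟨p, fun q => ?_⟩, ?_⟩
    · rw [← hb, hp, map_mul, map_mul, map_inv]
    · rintro _ ⟨e, he, rfl⟩
      exact ⟨b e, h e he, hb e⟩

/-- **the `P`-class of `ι uC` is invariant** -/
theorem norm_uu (hι : Function.Injective ι) {x : G} (hx : ∀ p : CC, x * ι p * x⁻¹ ∈ ι.range) :
    ∃ p ∈ ι.range, x * ι uC * x⁻¹ = p * ι uC * p⁻¹ := by
  obtain ⟨b, hb⟩ := exists_aut hι hx
  obtain ⟨p, hp⟩ := aut_uu b
  exact ⟨ι p, ⟨p, rfl⟩, by rw [← hb, hp, map_mul, map_mul, map_inv]⟩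

theorem uC_mem : ι uC ∈ ι.range := ⟨uC, rfl⟩

theorem uC_notMem (hι : Function.Injective ι) : ι uC ∉ im ι QQ := by
  rw [f_mem_im hι]; exact uu_notMem

/-- elements of `E1` centralising `C_P(u)` -/
theorem dc_E1 {e : G} (he : e ∈ im ι R1)
    (h : ∀ c : CC, c * uC = uC * c → e * ι c = ι c * e) (hι : Function.Injective ι) :
    e = 1 ∨ e = ι zC ∨ e = ι ⟨x 0 3, x_mem _ (by decide) (by decide)⟩ ∨
      e = ι ⟨x 0 3, x_mem _ (by decide) (by decide)⟩ * ι zC := by
  obtain ⟨e, he, rfl⟩ := he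
  rcases dc_R1 he (by
    intro c hc hcu
    have h1 := h ⟨c, hc⟩ (Subtype.ext hcu)
    rw [← map_mul, ← map_mul] at h1
    exact congrArg Subtype.val (hι h1)) with h1 | h1 | h1 | h1
  · left
    rw [← map_one ι]; exact congrArg ι (Subtype.ext h1)
  · right; left
    exact congrArg ι (Subtype.ext h1)
  · right; right; left
    exact congrArg ι (Subtype.ext h1)
  · right; right; right
    rw [← map_mul]; exact congrArg ι (Subtype.ext h1)

/-- elements of `E2` centralising `C_P(u)` -/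
theorem dc_E2 {e : G} (he : e ∈ im ι R2)
    (h : ∀ c : CC, c * uC = uC * c → e * ι c = ι c * e) (hι : Function.Injective ι) :
    e = 1 ∨ e = ι zC ∨ e = ι ⟨x 1 4, x_mem _ (by decide) (by decide)⟩ ∨
      e = ι ⟨x 1 4, x_mem _ (by decide) (by decide)⟩ * ι zC := by
  obtain ⟨e, he, rfl⟩ := he
  rcases dc_R2 he (by
    intro c hc hcu
    have h1 := h ⟨c, hc⟩ (Subtype.ext hcu)
    rw [← map_mul, ← map_mul] at h1
    exact congrArg Subtype.val (hι h1)) with h1 | h1 | h1 | h1
  · left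
    rw [← map_one ι]; exact congrArg ι (Subtype.ext h1)
  · right; left
    exact congrArg ι (Subtype.ext h1)
  · right; right; left
    exact congrArg ι (Subtype.ext h1)
  · right; right; right
    rw [← map_mul]; exact congrArg ι (Subtype.ext h1)

end

end Cfsg.Agent.KFacts.TwoSix.Sheet
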