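import Cfsg.Agent.KFacts.TwoSix.U

/-!
# `Aut(CC) = ⟨Inn(CC), tauC⟩`
-/

set_option autoImplicit false

namespace Cfsg.Agent.KFacts.TwoSix.AutCC

open Cfsg.Agent.SporadicRecognition.HeldModel Cfsg.Agent.KFacts.TwoSix.Aut Cfsg.Agent.KFacts.TwoSix.U

/-- **`Out(CC)` has order 2** -/
theorem aut (f : CC ≃* CC) :
    ∃ c : CC, (∀ u, f u = c * u * c⁻¹) ∨ (∀ u, f u = c * tauC u * c⁻¹) := by
  rcases aut_cases f with h | h
  · obtain ⟨p, hp⟩ := aut_inner f h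
    exact ⟨p, Or.inl hp⟩
  · obtain ⟨p, hp⟩ := aut_outer f h
    exact ⟨p, Or.inr hp⟩

end Cfsg.Agent.KFacts.TwoSix.AutCC
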