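import Cfsg.Agent.KFacts.TwoSix.Base

/-!
# `CC = 2^{1+6}:L3(2)`: centralisers, normal 2-subgroups, pairing

All statements about `CC ≤ SL(5, 2)`, `QQ = O_2(CC)`, `R1`, `R2` (the two normal subgroups `2^4`), `zz`.
-/

set_option autoImplicit false

namespace Cfsg.Agent.KFacts.TwoSix.Facts

open Matrix Cfsg.Agent.SporadicRecognition.HeldModel Cfsg.Agent.Held.AffineIso
  Cfsg.Agent.KFacts.TwoSix.Base

theorem conj_ro {g : L5} (hg : g ∈ CC) (f : F4) : g * ro f * g⁻¹ = ro (f ᵥ* low g⁻¹) := by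
  have h := ro_conj (CC.inv_mem hg) f
  calc g * ro f * g⁻¹ = g * (ro f * g⁻¹) := by group
    _ = ro (f ᵥ* low g⁻¹) := by rw [h]; group

theorem single_ne {f : F4} (h0 : f ≠ 0) (h3 : f ≠ Pi.single 3 1) : ∃ j : Fin 4, j ≠ 3 ∧ f j = 1 := by
  revert f; decide

theorem eq_zero_or (f : F4) (h : ∀ j : Fin 4, j ≠ 3 → f j = 0) : f = 0 ∨ f = Pi.single 3 1 := by
  revert f; decide

theorem ro_eq_one_or (f : F4) (h : ∀ j : Fin 4, j ≠ 3 → f j = 0) : ro f = 1 ∨ ro f = zz := by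
  rcases eq_zero_or f h with rfl | rfl
  · exact Or.inl ro_zero
  · exact Or.inr zz_eq.symm

theorem zz_ne_one : zz ≠ 1 := by
  rw [zz_eq, ← ro_zero]
  intro h
  exact absurd (ro_inj h) (by decide)

theorem zz_sq : zz * zz = 1 := by rw [zz_eq, ro_sq]

theorem zz_mem_R1 : zz ∈ R1 := by rw [zz_eq]; exact ro_mem_R1 _

theorem zz_mem_R2 : zz ∈ R2 := by
  rw [← tau_zz]; exact tau_mem_R2 zz_mem_R1

theorem zz_comm {g : L5} (hg : g ∈ CC) : g * zz = zz * g := mem_CC.1 hg

/-! ### The transvections `1 + u φ` of the lower block -/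

/-- `blk 0 (1 + u φ)` -/
def T (u φ : F4) (h : φ ⬝ᵥ u = 0) : L5 :=
  slBlk 0 (1 + Matrix.vecMulVec u φ) (by
    apply det_eq_one_of_mul (B := 1 + Matrix.vecMulVec u φ)
    have e : Matrix.vecMulVec u φ * Matrix.vecMulVec u φ = 0 := by
      rw [Matrix.vecMulVec_mul_vecMulVec, h]
      simp
    rw [add_mul, mul_add, mul_add, e, one_mul, one_mul, mul_one]
    ext i j
    simp only [Matrix.add_apply, add_zero]
    have := CharTwo.add_self_eq_zero (Matrix.vecMulVec u φ i j)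
    rw [add_assoc, this, add_zero])

theorem coe_T (u φ : F4) (h : φ ⬝ᵥ u = 0) : (T u φ h : Matrix (Fin 5) (Fin 5) (ZMod 2)) =
    blk 0 (1 + Matrix.vecMulVec u φ) := rfl

theorem T_mem {u φ : F4} (h : φ ⬝ᵥ u = 0) (h3 : u 3 = 0) : T u φ h ∈ CC := by
  apply mem_CC_blk (coe_T u φ h)
  intro j
  rw [Matrix.add_apply, Matrix.vecMulVec_apply, h3, zero_mul, add_zero, Matrix.one_apply]
  revert j; decide

theorem top_T {u φ : F4} (h : φ ⬝ᵥ u = 0) : top (T u φ h) = 0 := by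
  funext j
  rw [top_apply, coe_T, blk_zero_succ]

theorem low_T {u φ : F4} (h : φ ⬝ᵥ u = 0) : low (T u φ h) = 1 + Matrix.vecMulVec u φ := by
  ext i j
  rw [low_apply, coe_T, blk_succ_succ]

theorem vecMul_T (f u φ : F4) : f ᵥ* (1 + Matrix.vecMulVec u φ) = f + (f ⬝ᵥ u) • φ := by
  rw [Matrix.vecMul_add, Matrix.vecMul_one, Matrix.vecMul_vecMulVec]

theorem ro_T (f : F4) {u φ : F4} (h : φ ⬝ᵥ u = 0) (h3 : u 3 = 0) :
    (T u φ h)⁻¹ * ro f * T u φ h = ro (f + (f ⬝ᵥ u) • φ) := by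
  rw [mul_assoc, ro_conj (T_mem h h3), low_T, vecMul_T, inv_mul_cancel_left]

/-! ### Centralisers -/

/-- `C_CC(R1) = R1` -/
theorem cent_R1 {g : L5} (hg : g ∈ CC) (h : ∀ e ∈ R1, g * e = e * g) : g ∈ R1 := by
  rw [mem_R1_low]
  refine ⟨hg, ?_⟩
  have h1 : ∀ f : F4, f ᵥ* low g = f := by
    intro f
    apply ro_inj
    have e1 := ro_conj hg f
    rw [← h _ (ro_mem_R1 f)] at e1
    exact (mul_left_cancel e1).symm
  ext i j
  have := congrFun (h1 (Pi.single i 1)) j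
  rw [Matrix.single_one_vecMul, Matrix.row_apply] at this
  rw [this, Pi.single_apply, Matrix.one_apply]
  simp only [eq_comm]

/-- `C_CC(R1 / ⟨zz⟩) = QQ` -/
theorem cent_quot_R1 {g : L5} (hg : g ∈ CC)
    (h : ∀ e ∈ R1, g * e * g⁻¹ * e⁻¹ = 1 ∨ g * e * g⁻¹ * e⁻¹ = zz) : g ∈ QQ := by
  have hg' := CC.inv_mem hg
  have key : g⁻¹ ∈ QQ := by
    rw [mem_QQ_low]
    refine ⟨hg', ?_⟩
    intro i j hj
    have h1 := h _ (ro_mem_R1 (Pi.single i 1))
    rw [conj_ro hg, ro_inv, ← ro_add] at h1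
    have h2 : (((Pi.single i 1 : F4) ᵥ* low g⁻¹ : F4) + (Pi.single i 1 : F4)) j = 0 := by
      rcases h1 with h1 | h1
      · rw [← ro_zero] at h1
        rw [ro_inj h1]; rfl
      · rw [zz_eq] at h1
        rw [ro_inj h1, Pi.single_eq_of_ne hj]
    rw [Pi.add_apply, Matrix.single_one_vecMul, Matrix.row_apply, Pi.single_apply] at h2
    have h3 := CharTwo.add_eq_zero.1 h2
    rw [h3]
    simp only [eq_comm]
  have := QQ.inv_mem key
  rwa [inv_inv] at this

theorem low_comm_of {g p : L5} (hg : g ∈ CC) (hp : p ∈ CC) (h : g * p * g⁻¹ * p⁻¹ ∈ R1) :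
    low g * low p = low p * low g := by
  have hgp := CC.mul_mem hg hp
  have e : g * p = (g * p * g⁻¹ * p⁻¹) * (p * g) := by group
  have h1 := (mem_R1_low.1 h)
  calc low g * low p = low (g * p) := (low_mul hg hp).symm
    _ = low ((g * p * g⁻¹ * p⁻¹) * (p * g)) := by rw [← e]
    _ = low p * low g := by rw [low_mul h1.1 (CC.mul_mem hp hg), h1.2, one_mul, low_mul hp hg]

theorem single_T (j : Fin 4) (hj : j ≠ 3) : (Pi.single 3 1 : F4) ⬝ᵥ Pi.single j 1 = 0 := by
  revert j; decide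

theorem T_col_mem_QQ (j : Fin 4) (hj : j ≠ 3) : T (Pi.single j 1) (Pi.single 3 1) (single_T j hj) ∈ QQ := by
  rw [mem_QQ_low]
  refine ⟨T_mem _ ?_, ?_⟩
  · revert j; decide
  · intro i k hk
    rw [low_T, Matrix.add_apply, Matrix.vecMulVec_apply, Pi.single_eq_of_ne hk, mul_zero, add_zero,
      Matrix.one_apply]

theorem T_col_mem_R2 (j : Fin 4) (hj : j ≠ 3) : T (Pi.single j 1) (Pi.single 3 1) (single_T j hj) ∈ R2 := by
  intro i k hik
  rw [Matrix.sub_apply, sub_eq_zero, coe_T]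
  revert hik
  refine Fin.cases ?_ (fun i => ?_) i <;> refine Fin.cases ?_ (fun k => ?_) k
  · intro _; simp
  · intro _; rw [blk_zero_succ, Matrix.one_apply, if_neg (Fin.succ_ne_zero k).symm]; rfl
  · intro _; simp
  · intro hik
    rw [blk_succ_succ, Matrix.add_apply, Matrix.vecMulVec_apply]
    by_cases hk : k = 3
    · subst hk
      have hi : i = 3 := by revert hik; revert i; decide
      subst hi
      rw [Pi.single_eq_of_ne hj.symm, zero_mul, add_zero]; rfl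
    · rw [Pi.single_eq_of_ne hk, mul_zero, add_zero, Matrix.one_apply, Matrix.one_apply]
      simp

/-- `C_CC(QQ / R1) = QQ` -/
theorem cent_top {g : L5} (hg : g ∈ CC) (h : ∀ r ∈ QQ, g * r * g⁻¹ * r⁻¹ ∈ R1) : g ∈ QQ := by
  rw [mem_QQ_low]
  refine ⟨hg, ?_⟩
  intro i j hj
  have h1 := low_comm_of hg (QQ_le_CC (T_col_mem_QQ j hj)) (h _ (T_col_mem_QQ j hj))
  rw [low_T, mul_add, add_mul, mul_one, one_mul, add_right_inj, Matrix.mul_vecMulVec,
    Matrix.vecMulVec_mul] at h1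
  have h2 := congrFun (congrFun h1 i) 3
  rw [Matrix.vecMulVec_apply, Matrix.vecMulVec_apply, e3_mul hg, Pi.single_eq_same, mul_one,
    mul_one, Matrix.mulVec_single_one, Matrix.col_apply, Pi.single_apply] at h2
  exact h2

theorem exists_other (j : Fin 4) : ∃ i : Fin 4, i ≠ 3 ∧ i ≠ j := by revert j; decide

/-- `CC / R1` has trivial centre -/
theorem cen_R1 {g : L5} (hg : g ∈ CC) (h : ∀ p ∈ CC, g * p * g⁻¹ * p⁻¹ ∈ R1) : g ∈ R1 := by
  have hQ : g ∈ QQ := cent_top hg (fun r hr => h r (QQ_le_CC hr))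
  rw [mem_QQ_low] at hQ
  rw [mem_R1_low]
  refine ⟨hg, ?_⟩
  ext i j
  by_cases hj : j = 3
  · subst hj
    by_cases hi : i = 3
    · subst hi
      rw [low_three hg]; rfl
    · obtain ⟨k, hk3, hki⟩ := exists_other i
      have h0 : (Pi.single i 1 : F4) ⬝ᵥ Pi.single k 1 = 0 := by
        rw [single_one_dotProduct, Pi.single_eq_of_ne hki.symm]
      have hk : (Pi.single k 1 : F4) 3 = 0 := Pi.single_eq_of_ne hk3.symm _
      have h1 := low_comm_of hg (T_mem h0 hk) (h _ (T_mem h0 hk))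
      rw [low_T, mul_add, add_mul, mul_one, one_mul, add_right_inj, Matrix.mul_vecMulVec,
        Matrix.vecMulVec_mul] at h1
      have h2 := congrFun (congrFun h1 k) 3
      rw [Matrix.vecMulVec_apply, Matrix.vecMulVec_apply, Matrix.mulVec_single_one, Matrix.col_apply,
        Matrix.single_one_vecMul, Matrix.row_apply, Pi.single_eq_of_ne (Ne.symm hi), mul_zero,
        Pi.single_eq_same, one_mul] at h2
      rw [← h2, Matrix.one_apply, if_neg hi]
  · rw [hQ.2 i j hj, Matrix.one_apply]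

/-- `CC / QQ` has trivial centre -/
theorem cen_QQ {g : L5} (hg : g ∈ CC) (h : ∀ p ∈ CC, g * p * g⁻¹ * p⁻¹ ∈ QQ) : g ∈ QQ := by
  have hg' := CC.inv_mem hg
  have key : ∀ p ∈ CC, ∀ i j : Fin 4, j ≠ 3 → (low g * low p) i j = (low p * low g) i j := by
    intro p hp i j hj
    have e : g * p = (g * p * g⁻¹ * p⁻¹) * (p * g) := by group
    have hpg := CC.mul_mem hp hg
    have h1 := mem_QQ_low.1 (h p hp)
    rw [← low_mul hg hp, e, low_mul h1.1 hpg, Matrix.mul_apply, Finset.sum_eq_single i]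
    · by_cases hi : i = 3
      · subst hi
        rw [low_three h1.1, if_pos rfl, one_mul, low_mul hp hg]
      · rw [h1.2 i i hi, if_pos rfl, one_mul, low_mul hp hg]
    · intro k _ hk
      by_cases hk3 : k = 3
      · subst hk3
        rw [low_three hpg, if_neg hj, mul_zero]
      · rw [h1.2 i k hk3, if_neg hk.symm, zero_mul]
    · intro hi; exact absurd (Finset.mem_univ i) hi
  rw [mem_QQ_low]
  refine ⟨hg, ?_⟩
  intro i a ha
  -- choose `b ≠ a, 3`
  obtain ⟨b, hb3, hba⟩ := exists_other a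
  have h0 : (Pi.single b 1 : F4) ⬝ᵥ Pi.single a 1 = 0 := by
    rw [single_one_dotProduct, Pi.single_eq_of_ne hba]
  have ha3 : (Pi.single a 1 : F4) 3 = 0 := Pi.single_eq_of_ne (Ne.symm ha) _
  have h1 := key _ (T_mem h0 ha3)
  have h2 : ∀ i, low g i a = if i = a then low g b b else 0 := by
    intro i
    have := h1 i b hb3
    rw [low_T, mul_add, add_mul, mul_one, one_mul, Matrix.add_apply, Matrix.add_apply,
      add_right_inj, Matrix.mul_vecMulVec, Matrix.vecMulVec_mul, Matrix.vecMulVec_apply,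
      Matrix.vecMulVec_apply, Matrix.mulVec_single_one, Matrix.col_apply, Matrix.single_one_vecMul,
      Matrix.row_apply, Pi.single_eq_same, mul_one, Pi.single_apply] at this
    rw [this]
    split_ifs <;> simp
  have h3 : low g b b ≠ 0 := by
    intro h4
    have h5 := congrFun (congrFun (low_inv' hg) a) a
    rw [Matrix.mul_apply, Finset.sum_eq_zero, Matrix.one_apply_eq] at h5
    · exact zero_ne_one h5
    · intro k _
      rw [h2 k, h4]
      split_ifs <;> simp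
  have h4 : low g b b = 1 := by
    rcases zmod2_cases (low g b b) with h | h
    · exact absurd h h3
    · exact h
  rw [h2 i, h4]

/-- `R1 ∩ R2 = ⟨zz⟩` -/
theorem inter {g : L5} (h1 : g ∈ R1) (h2 : g ∈ R2) : g = 1 ∨ g = zz := by
  obtain ⟨f, rfl⟩ := mem_R1_low'.1 h1
  apply ro_eq_one_or
  intro j hj
  have h3 := h2 0 j.succ (by revert hj; revert j; decide)
  rw [Matrix.sub_apply, sub_eq_zero, coe_ro, blk_zero_succ, Matrix.one_apply,
    if_neg (Fin.succ_ne_zero j).symm] at h3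
  exact h3

theorem R2_le_QQ' : R2 ≤ QQ := R2_le_QQ

/-- the centraliser of `QQ` -/
theorem cent_QQ {g : L5} (hg : g ∈ CC) (h : ∀ r ∈ QQ, g * r = r * g) : g = 1 ∨ g = zz := by
  apply inter
  · exact cent_R1 hg (fun e he => h e (R1_le_QQ he))
  · rw [← tau_mem_R1_iff]
    apply cent_R1 (tau_mem_CC hg)
    intro e he
    have h1 := h (tau e) (R2_le_QQ (tau_mem_R2 he))
    have h2 := congrArg tau h1
    rwa [map_mul, map_mul, tau_tau] at h2

/-! ### Decomposition of `QQ` -/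

theorem mem_R2_low {g : L5} : g ∈ R2 ↔ g ∈ QQ ∧ ∀ j : Fin 4, j ≠ 3 → top g j = 0 := by
  constructor
  · intro h
    refine ⟨R2_le_QQ h, ?_⟩
    intro j hj
    have h3 := h 0 j.succ (by revert hj; revert j; decide)
    rw [Matrix.sub_apply, sub_eq_zero, Matrix.one_apply, if_neg (Fin.succ_ne_zero j).symm] at h3
    exact h3
  · rintro ⟨h, h0⟩ i j hij
    by_cases hi : i = 0
    · subst hi
      rw [Matrix.sub_apply, sub_eq_zero]
      revert hij
      refine Fin.cases ?_ (fun j => ?_) j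
      · intro _
        exact CC_entry (QQ_le_CC h) (by simp [PC])
      · intro hij
        have hj : j ≠ 3 := by revert hij; revert j; decide
        have h1 := h0 j hj
        rw [top_apply] at h1
        rw [h1, Matrix.one_apply, if_neg (Fin.succ_ne_zero j).symm]
    · apply h i j
      revert hij hi; revert i j; decide

/-- the part in `R2` -/
theorem exists_mul {g : L5} (hg : g ∈ QQ) : ∃ b ∈ R2, g = b * ro (top g) ∧ low b = low g := by
  have hC := QQ_le_CC hg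
  set b := g * ro (top g) with hb
  have e : g = b * ro (top g) := by
    rw [hb, mul_assoc, ro_sq, mul_one]
  refine ⟨b, ?_, e, ?_⟩
  · rw [mem_R2_low]
    refine ⟨QQ.mul_mem hg (R1_le_QQ (ro_mem_R1 _)), ?_⟩
    intro j _
    rw [hb, top_mul hC (ro_mem _), top_ro, low_ro, vecMul_one, add_self]; rfl
  · rw [hb, low_mul hC (ro_mem _), low_ro, mul_one]

theorem norm_R1 {p : L5} (hp : p ∈ CC) {e : L5} (he : e ∈ R1) : p * e * p⁻¹ ∈ R1 := by
  obtain ⟨f, rfl⟩ := mem_R1_low'.1 he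
  rw [conj_ro hp]
  exact ro_mem_R1 _

theorem norm_R2 {p : L5} (hp : p ∈ CC) {e : L5} (he : e ∈ R2) : p * e * p⁻¹ ∈ R2 := by
  rw [← tau_mem_R1_iff, map_mul, map_mul, map_inv]
  exact norm_R1 (tau_mem_CC hp) (tau_mem_R1 he)

theorem exists_mul' {g : L5} (hg : g ∈ QQ) : ∃ a ∈ R1, ∃ b ∈ R2, g = a * b := by
  obtain ⟨b, hb, e, -⟩ := exists_mul hg
  refine ⟨b * ro (top g) * b⁻¹, norm_R1 (QQ_le_CC (R2_le_QQ hb)) (ro_mem_R1 _), b, hb, ?_⟩
  rw [inv_mul_cancel_right]
  exact e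

theorem norm_QQ {p : L5} (hp : p ∈ CC) {e : L5} (he : e ∈ QQ) : p * e * p⁻¹ ∈ QQ := by
  obtain ⟨a, ha, b, hb, rfl⟩ := exists_mul' he
  have e : p * (a * b) * p⁻¹ = (p * a * p⁻¹) * (p * b * p⁻¹) := by group
  rw [e]
  exact QQ.mul_mem (R1_le_QQ (norm_R1 hp ha)) (R2_le_QQ (norm_R2 hp hb))

theorem sq_R1 {e : L5} (he : e ∈ R1) : e * e = 1 := by
  obtain ⟨f, rfl⟩ := mem_R1_low'.1 he
  exact ro_sq f

theorem sq_R2 {e : L5} (he : e ∈ R2) : e * e = 1 := by
  apply tau_inj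
  rw [map_mul, map_one]
  exact sq_R1 (tau_mem_R1 he)

theorem comm_R1 {e e' : L5} (he : e ∈ R1) (he' : e' ∈ R1) : e * e' = e' * e := by
  obtain ⟨f, rfl⟩ := mem_R1_low'.1 he
  obtain ⟨f', rfl⟩ := mem_R1_low'.1 he'
  exact ro_comm f f'

theorem comm_R2 {e e' : L5} (he : e ∈ R2) (he' : e' ∈ R2) : e * e' = e' * e := by
  apply tau_inj
  rw [map_mul, map_mul]
  exact comm_R1 (tau_mem_R1 he) (tau_mem_R1 he')

end Cfsg.Agent.KFacts.TwoSix.Facts
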