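import Cfsg.Agent.KFacts.TwoSix.Normal
import Cfsg.Agent.S0248

/-!
# `CC = 2^{1+6}:L3(2)`: perfect, automorphisms

* `perf : ⁅CC, CC⁆ = CC`;
* `aut_cases`: an automorphism of `CC` maps `R1` to `R1` or to `R2`;
* `aut_inner`: an automorphism of `CC` mapping `R1` to `R1` is inner.
-/

set_option autoImplicit false

namespace Cfsg.Agent.KFacts.TwoSix.Aut

open Matrix Cfsg.Agent.SporadicRecognition.HeldModel Cfsg.Agent.Held.AffineIso
  Cfsg.Agent.KFacts.TwoSix.Base Cfsg.Agent.KFacts.TwoSix.Facts Cfsg.Agent.KFacts.TwoSix.Normal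

/-! ### Perfect -/

theorem comm_le : ⁅CC, CC⁆ ≤ CC := by
  rw [Subgroup.commutator_le]
  intro p hp q hq
  rw [commutatorElement_def]
  exact CC.mul_mem (CC.mul_mem (CC.mul_mem hp hq) (CC.inv_mem hp)) (CC.inv_mem hq)

theorem comm_norm : ∀ p ∈ CC, ∀ y ∈ ⁅CC, CC⁆, p * y * p⁻¹ ∈ ⁅CC, CC⁆ := by
  intro p hp y hy
  have h1 : p * y * p⁻¹ = (p * y * p⁻¹ * y⁻¹) * y := by group
  have h2 := Subgroup.commutator_mem_commutator hp (comm_le hy)
  rw [commutatorElement_def] at h2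
  rw [h1]
  exact Subgroup.mul_mem _ h2 hy

theorem R1_le_comm : R1 ≤ ⁅CC, CC⁆ := by
  -- `[ro e₀, T e₀ e₁] = ro e₁`
  have h0 : (Pi.single 1 1 : F4) ⬝ᵥ Pi.single 0 1 = 0 := by decide
  have h3 : (Pi.single 0 1 : F4) 3 = 0 := by decide
  have hT := T_mem h0 h3
  have h1 : (T _ _ h0)⁻¹ * ro (Pi.single 0 1) * (T _ _ h0)⁻¹⁻¹ * (ro (Pi.single 0 1))⁻¹ =
      ro (Pi.single 1 1) := by
    rw [inv_inv, ro_T _ h0 h3, ro_inv, ← ro_add]
    congr 1
    decide
  have h2 : ro (Pi.single 1 1) ∈ ⁅CC, CC⁆ := by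
    have := Subgroup.commutator_mem_commutator (CC.inv_mem hT) (ro_mem (Pi.single 0 1))
    rw [commutatorElement_def, h1] at this
    exact this
  refine R1_le_of_mem comm_norm h2 (ro_mem_R1 _) ?_ ?_
  · intro h; rw [← ro_zero] at h; exact absurd (ro_inj h) (by decide)
  · intro h; rw [zz_eq] at h; exact absurd (ro_inj h) (by decide)

theorem tau_comm {g : L5} (hg : g ∈ ⁅CC, CC⁆) : tau g ∈ ⁅CC, CC⁆ := by
  have h1 : CC.map tau ≤ CC := by
    rintro _ ⟨c, hc, rfl⟩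
    exact tau_mem_CC hc
  have h2 : (⁅CC, CC⁆).map tau ≤ ⁅CC, CC⁆ := by
    rw [Subgroup.map_commutator]
    exact Subgroup.commutator_mono h1 h1
  exact h2 ⟨g, hg, rfl⟩

theorem R2_le_comm : R2 ≤ ⁅CC, CC⁆ := by
  intro g hg
  have := tau_comm (R1_le_comm (tau_mem_R1 hg))
  rwa [tau_tau] at this

theorem QQ_le_comm : QQ ≤ ⁅CC, CC⁆ := by
  intro g hg
  obtain ⟨a, ha, b, hb, rfl⟩ := exists_mul' hg
  exact Subgroup.mul_mem _ (R1_le_comm ha) (R2_le_comm hb)

/-- `CC` is perfect -/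
theorem perf : ⁅CC, CC⁆ = CC := by
  apply le_antisymm comm_le
  intro g hg
  have h1 : (commutator CC).map toL3 = ⊤ := by
    rw [_root_.commutator_def, Subgroup.map_commutator, ← MonoidHom.range_eq_map,
      MonoidHom.range_eq_top.2 toL3_surjective, ← _root_.commutator_def]
    exact Cfsg.Agent.S0248.result 3 le_rfl
  have h2 : toL3 ⟨g, hg⟩ ∈ (commutator CC).map toL3 := by rw [h1]; trivial
  obtain ⟨c, hc, e⟩ := h2
  have h3 : (c : L5) ∈ ⁅CC, CC⁆ := by
    have h4 : (commutator CC).map CC.subtype = ⁅CC, CC⁆ := by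
      rw [_root_.commutator_def, Subgroup.map_commutator, ← MonoidHom.range_eq_map,
        Subgroup.range_subtype]
    rw [← h4]
    exact ⟨c, hc, rfl⟩
  have h5 : c⁻¹ * ⟨g, hg⟩ ∈ toL3.ker := by
    rw [MonoidHom.mem_ker, map_mul, map_inv, e, inv_mul_cancel]
  rw [toL3_ker, Subgroup.mem_subgroupOf] at h5
  have h6 : g = (c : L5) * ((c : L5)⁻¹ * g) := by group
  rw [h6]
  exact Subgroup.mul_mem _ h3 (QQ_le_comm h5)

/-! ### Automorphisms -/

theorem center_cases {g : CC} (h : ∀ p : CC, g * p = p * g) : g = 1 ∨ g = zC := by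
  rcases cent_QQ g.2 (fun r hr => congrArg Subtype.val (h ⟨r, QQ_le_CC hr⟩)) with h1 | h1
  · exact Or.inl (Subtype.ext h1)
  · exact Or.inr (Subtype.ext h1)

theorem zC_ne : zC ≠ 1 := fun h => zz_ne_one (congrArg Subtype.val h)

theorem aut_zC (b : CC ≃* CC) : b zC = zC := by
  rcases center_cases (g := b zC) (by
    intro p
    obtain ⟨q, rfl⟩ := b.surjective p
    rw [← map_mul, ← map_mul]
    congr 1
    apply Subtype.ext
    exact (zz_comm q.2).symm) with h | h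
  · exact absurd (b.injective (h.trans (map_one b).symm)) zC_ne
  · exact h

/-- image of a subgroup `X ≤ CC` of `L5` under `b` -/
def bim (b : CC ≃* CC) (X : Subgroup L5) : Subgroup L5 :=
  ((X.subgroupOf CC).map b.toMonoidHom).map CC.subtype

theorem mem_bim {b : CC ≃* CC} {X : Subgroup L5} {g : L5} :
    g ∈ bim b X ↔ ∃ c : CC, (c : L5) ∈ X ∧ ((b c : CC) : L5) = g := by
  constructor
  · rintro ⟨_, ⟨c, hc, rfl⟩, rfl⟩
    exact ⟨c, hc, rfl⟩
  · rintro ⟨c, hc, rfl⟩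
    exact ⟨b c, ⟨c, hc, rfl⟩, rfl⟩

theorem bim_le (b : CC ≃* CC) (X : Subgroup L5) : bim b X ≤ CC := by
  intro g hg
  obtain ⟨c, -, rfl⟩ := mem_bim.1 hg
  exact (b c).2

theorem bim_norm (b : CC ≃* CC) {X : Subgroup L5} (hX : ∀ p ∈ CC, ∀ y ∈ X, p * y * p⁻¹ ∈ X) :
    ∀ p ∈ CC, ∀ y ∈ bim b X, p * y * p⁻¹ ∈ bim b X := by
  intro p hp y hy
  obtain ⟨c, hc, rfl⟩ := mem_bim.1 hy
  obtain ⟨q, hq⟩ := b.surjective ⟨p, hp⟩
  rw [mem_bim]
  refine ⟨q * c * q⁻¹, hX _ q.2 _ hc, ?_⟩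
  rw [map_mul, map_mul, map_inv, hq]
  rfl

theorem card_bim (b : CC ≃* CC) {X : Subgroup L5} (hX : X ≤ CC) : Nat.card (bim b X) = Nat.card X := by
  unfold bim
  rw [Subgroup.card_map_of_injective CC.subtype_injective, Subgroup.card_map_of_injective b.injective,
    Nat.card_congr (Subgroup.subgroupOfEquivOfLe hX).toEquiv]

theorem card_R1 : Nat.card R1 = 16 := by
  have e : Nat.card R1 = Nat.card F4 := by
    symm
    apply Nat.card_congr
    exact Equiv.ofBijective (fun f : F4 => (⟨ro f, ro_mem_R1 f⟩ : R1)) ⟨fun f g h =>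
      ro_inj (congrArg Subtype.val h), fun g => by
        obtain ⟨f, hf⟩ := mem_R1_low'.1 g.2
        exact ⟨f, Subtype.ext hf.symm⟩⟩
  rw [e]; simp

theorem card_R2 : Nat.card R2 = 16 := by
  rw [← card_R1]
  apply Nat.card_congr
  exact ⟨fun g => ⟨tau g, tau_mem_R1 g.2⟩, fun g => ⟨tau g, tau_mem_R2 g.2⟩,
    fun g => Subtype.ext (tau_tau _), fun g => Subtype.ext (tau_tau _)⟩

theorem bim_QQ (b : CC ≃* CC) : bim b QQ = QQ := by
  have h1 : bim b QQ ≤ QQ := by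
    apply core (bim_le _ _) _ (bim_norm b (fun p hp y hy => norm_QQ hp hy))
    apply IsPGroup.of_card (n := 7)
    rw [card_bim b QQ_le_CC, card_QQ]
    norm_num
  exact Subgroup.eq_of_le_of_card_ge h1 (by rw [card_bim b QQ_le_CC])

theorem card_le_two {Y : Subgroup L5} (h : ∀ y ∈ Y, y = 1 ∨ y = zz) : Nat.card Y ≤ 2 := by
  have h2 : (Y : Set L5) ⊆ {1, zz} := fun y hy => by
    rcases h y hy with h | h
    · exact Or.inl h
    · exact Or.inr h
  calc Nat.card Y = (Y : Set L5).ncard := rfl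
    _ ≤ ({1, zz} : Set L5).ncard := Set.ncard_le_ncard h2 (Set.toFinite _)
    _ ≤ 2 := (Set.ncard_insert_le _ _).trans (by rw [Set.ncard_singleton])

theorem bim_cases (b : CC ≃* CC) : bim b R1 = R1 ∨ bim b R1 = R2 := by
  have h1 : bim b R1 ≤ QQ := by
    intro g hg
    obtain ⟨c, hc, rfl⟩ := mem_bim.1 hg
    rw [← bim_QQ b]
    exact mem_bim.2 ⟨c, R1_le_QQ hc, rfl⟩
  have hc := card_bim b R1_le_CC
  rw [card_R1] at hc
  rcases normal_cases h1 (bim_norm b (fun p hp y hy => norm_R1 hp hy)) with h | h | h | h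
  · exact absurd hc (by have := card_le_two h; omega)
  · exact Or.inl h
  · exact Or.inr h
  · exfalso
    rw [h, card_QQ] at hc
    omega

/-- **`R1` is mapped to `R1` or to `R2`.** -/
theorem aut_cases (b : CC ≃* CC) : (∀ e : CC, (e : L5) ∈ R1 → ((b e : CC) : L5) ∈ R1) ∨
    (∀ e : CC, (e : L5) ∈ R1 → ((b e : CC) : L5) ∈ R2) := by
  rcases bim_cases b with h | h
  · left; intro e he; rw [← h]; exact mem_bim.2 ⟨e, he, rfl⟩
  · right; intro e he; rw [← h]; exact mem_bim.2 ⟨e, he, rfl⟩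

theorem aut_QQ (b : CC ≃* CC) {e : CC} (he : (e : L5) ∈ QQ) : ((b e : CC) : L5) ∈ QQ := by
  have := bim_QQ b
  rw [← this]; exact mem_bim.2 ⟨e, he, rfl⟩

/-- the element of `CC` with row `f` -/
def rC (f : F4) : CC := ⟨ro f, ro_mem f⟩

theorem rC_add (f g : F4) : rC (f + g) = rC f * rC g := Subtype.ext (ro_add f g)

theorem rC_inj {f g : F4} (h : rC f = rC g) : f = g := ro_inj (congrArg Subtype.val h)

theorem zC_eq : zC = rC (Pi.single 3 1) := Subtype.ext zz_eq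

/-- an automorphism fixing `R1` acts on `R1` as an element of `CC` -/
theorem exists_act (b : CC ≃* CC) (h : ∀ e : CC, (e : L5) ∈ R1 → ((b e : CC) : L5) ∈ R1) :
    ∃ p : CC, ∀ f : F4, b (rC f) = p * rC f * p⁻¹ := by
  have h1 : ∀ f : F4, ∃ f' : F4, b (rC f) = rC f' := by
    intro f
    obtain ⟨f', hf'⟩ := mem_R1_low'.1 (h (rC f) (ro_mem_R1 f))
    exact ⟨f', Subtype.ext hf'⟩
  choose L hL using h1
  have hadd : ∀ f g, L (f + g) = L f + L g := by
    intro f g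
    apply rC_inj
    rw [← hL, rC_add, map_mul, hL, hL, rC_add]
  have hinj : Function.Injective L := by
    intro f g e
    apply rC_inj
    apply b.injective
    rw [hL, hL, e]
  have h3 : L (Pi.single 3 1) = Pi.single 3 1 := by
    apply rC_inj
    rw [← hL, ← zC_eq, aut_zC]
  let LL : F4 →ₗ[ZMod 2] F4 := AddMonoidHom.toZModLinearMap 2 (AddMonoidHom.mk' L hadd)
  have hLL : ∀ f, LL f = L f := fun f => rfl
  set M : Matrix (Fin 4) (Fin 4) (ZMod 2) := (LinearMap.toMatrix' LL)ᵀ with hM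
  have hvM : ∀ f : F4, f ᵥ* M = L f := by
    intro f
    rw [hM, Matrix.vecMul_transpose, ← Matrix.toLin'_apply, Matrix.toLin'_toMatrix', hLL]
  have hdet : M.det = 1 := by
    rcases zmod2_cases M.det with h0 | h0
    · exfalso
      obtain ⟨v, hv, hv0⟩ := Matrix.exists_vecMul_eq_zero_iff.2 h0
      apply hv
      apply hinj
      rw [← hvM, hv0, ← hvM, Matrix.zero_vecMul]
    · exact h0
  have hM3 : ∀ j, M 3 j = if j = 3 then 1 else 0 := by
    intro j
    have := congrFun (hvM (Pi.single 3 1)) j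
    rw [Matrix.single_one_vecMul, Matrix.row_apply, h3, Pi.single_apply] at this
    exact this
  have hp : slBlk 0 M hdet ∈ CC := mem_CC_blk (g := slBlk 0 M hdet) rfl hM3
  have hlow : low (slBlk 0 M hdet) = M := by
    ext i j
    rw [low_apply]
    exact blk_succ_succ _ _ _ _
  refine ⟨(⟨slBlk 0 M hdet, hp⟩ : CC)⁻¹, fun f => ?_⟩
  rw [hL, inv_inv]
  apply Subtype.ext
  show ro (L f) = (slBlk 0 M hdet)⁻¹ * ro f * slBlk 0 M hdet
  rw [mul_assoc, ro_conj hp, hlow, hvM, inv_mul_cancel_left]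

/-- a homomorphism `R2 → ⟨zz⟩` trivial on `zz` is `[a, ·]` for some `a ∈ R1` -/
theorem exists_dual (χ : CC → CC) (h1 : ∀ b : CC, (b : L5) ∈ R2 → χ b = 1 ∨ χ b = zC)
    (hm : ∀ b c : CC, (b : L5) ∈ R2 → (c : L5) ∈ R2 → χ (b * c) = χ b * χ c) (hz : χ zC = 1) :
    ∃ a : CC, (a : L5) ∈ R1 ∧ ∀ b : CC, (b : L5) ∈ R2 → a * b * a⁻¹ * b⁻¹ = χ b := by
  classical
  -- the column elements
  let k : Fin 4 → CC := fun j => if hj : j ≠ 3 then
    ⟨T (Pi.single j 1) (Pi.single 3 1) (single_T j hj), QQ_le_CC (T_col_mem_QQ j hj)⟩ else zC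
  have hk : ∀ j (hj : j ≠ 3), k j =
      ⟨T (Pi.single j 1) (Pi.single 3 1) (single_T j hj), QQ_le_CC (T_col_mem_QQ j hj)⟩ :=
    fun j hj => dif_pos hj
  have hk3 : k 3 = zC := dif_neg (fun h => h rfl)
  have hkR : ∀ j, (k j : L5) ∈ R2 := by
    intro j
    by_cases hj : j = 3
    · subst hj; rw [hk3]; exact zz_mem_R2
    · rw [hk j hj]; exact T_col_mem_R2 j hj
  let f : F4 := fun j => if χ (k j) = 1 then 0 else 1
  have hf3 : f 3 = 0 := by
    show (if χ (k 3) = 1 then (0 : ZMod 2) else 1) = 0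
    rw [hk3, if_pos hz]
  refine ⟨rC f, ro_mem_R1 f, ?_⟩
  -- both sides are homomorphisms on `R2` and agree on the generators
  have hgen : R2 ≤ Subgroup.closure (Set.range fun j => (k j : L5)) := by
    intro g hg
    obtain ⟨c, hc3, hc⟩ := low_QQ (R2_le_QQ hg)
    -- clear the column step by step
    have step : ∀ (n : ℕ) (g : L5), g ∈ R2 → (∀ j : Fin 4, n ≤ (j : ℕ) → j ≠ 3 → low g j 3 = 0) →
        g ∈ Subgroup.closure (Set.range fun j => (k j : L5)) := by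
      intro n
      induction n with
      | zero =>
        intro g hg h0
        have hg1 : g ∈ R1 := by
          rw [mem_R1_low]
          refine ⟨QQ_le_CC (R2_le_QQ hg), ?_⟩
          ext i j
          by_cases hj : j = 3
          · subst hj
            by_cases hi : i = 3
            · subst hi; rw [low_three (QQ_le_CC (R2_le_QQ hg))]; rfl
            · rw [h0 i (Nat.zero_le _) hi, Matrix.one_apply, if_neg hi]
          · rw [(mem_QQ_low.1 (R2_le_QQ hg)).2 i j hj, Matrix.one_apply]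
        rcases inter hg1 hg with rfl | rfl
        · exact Subgroup.one_mem _
        · exact Subgroup.subset_closure ⟨3, by show (k 3 : L5) = zz; rw [hk3]; rfl⟩
      | succ n ih =>
        intro g hg h0
        by_cases hn : n < 3
        swap
        · exact ih g hg (fun j hj hj3 => by
            exfalso; apply hj3; apply Fin.ext; have := j.2; show (j : ℕ) = 3; omega)
        set jn : Fin 4 := ⟨n, by omega⟩ with hjn
        have hjn3 : jn ≠ 3 := by
          intro h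
          have : (jn : ℕ) = 3 := congrArg Fin.val h
          rw [hjn] at this
          simp only at this
          omega
        rcases zmod2_cases (low g jn 3) with h1 | h1
        · apply ih g hg
          intro j hj hj3
          rcases Nat.eq_or_lt_of_le hj with h2 | h2
          · have : j = jn := Fin.ext h2.symm
            rw [this]; exact h1
          · exact h0 j h2 hj3
        · have hkj := hkR jn
          have hg' : (k jn : L5) * g ∈ R2 := R2.mul_mem hkj hg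
          have h2 : (k jn : L5) * g ∈ Subgroup.closure (Set.range fun j => (k j : L5)) := by
            apply ih _ hg'
            intro j hj hj3
            rw [low_mul (k jn).2 (QQ_le_CC (R2_le_QQ hg)), hk jn hjn3]
            show (low (T (Pi.single jn 1) (Pi.single 3 1) (single_T jn hjn3)) * low g) j 3 = 0
            rw [low_T, add_mul, one_mul, Matrix.vecMulVec_mul, e3_mul (QQ_le_CC (R2_le_QQ hg)),
              Matrix.add_apply, Matrix.vecMulVec_apply, Pi.single_eq_same, mul_one,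
              Pi.single_apply]
            rcases Nat.eq_or_lt_of_le hj with h2 | h2
            · have : j = jn := Fin.ext h2.symm
              rw [this, h1, if_pos rfl]; decide
            · have : j ≠ jn := by
                intro h
                rw [h] at h2
                simp [hjn] at h2
              rw [h0 j h2 hj3, if_neg this, add_zero]
          have h3 : g = (k jn : L5)⁻¹ * ((k jn : L5) * g) := by group
          rw [h3]
          exact Subgroup.mul_mem _ (Subgroup.inv_mem _ (Subgroup.subset_closure ⟨jn, rfl⟩)) h2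
    exact step 4 g hg (fun j hj _ => by have := j.2; omega)
  -- the set where both agree
  have hcomm : ∀ b : CC, (b : L5) ∈ R2 → rC f * b * (rC f)⁻¹ * b⁻¹ = 1 ∨
      rC f * b * (rC f)⁻¹ * b⁻¹ = zC := by
    intro b hb
    rcases pair (ro_mem_R1 f) (R2_le_QQ hb) with h | h
    · exact Or.inl (Subtype.ext h)
    · exact Or.inr (Subtype.ext h)
  have hzc : ∀ g : CC, zC * g = g * zC := fun g => Subtype.ext (zz_comm g.2).symm
  have hmul : ∀ b c : CC, (b : L5) ∈ R2 → (c : L5) ∈ R2 →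
      rC f * (b * c) * (rC f)⁻¹ * (b * c)⁻¹ =
        (rC f * b * (rC f)⁻¹ * b⁻¹) * (rC f * c * (rC f)⁻¹ * c⁻¹) := by
    intro b c hb hc
    have e1 : rC f * (b * c) * (rC f)⁻¹ * (b * c)⁻¹ =
        (rC f * b * (rC f)⁻¹ * b⁻¹) * (b * (rC f * c * (rC f)⁻¹ * c⁻¹) * b⁻¹) := by group
    have e2 : b * (rC f * c * (rC f)⁻¹ * c⁻¹) * b⁻¹ = rC f * c * (rC f)⁻¹ * c⁻¹ := by
      rcases hcomm c hc with h | h
      · rw [h]; group
      · rw [h, ← hzc]; group
    rw [e1, e2]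
  let S : Subgroup L5 :=
    { carrier := {g | ∃ h : g ∈ R2, rC f * ⟨g, QQ_le_CC (R2_le_QQ h)⟩ * (rC f)⁻¹ *
        (⟨g, QQ_le_CC (R2_le_QQ h)⟩ : CC)⁻¹ = χ ⟨g, QQ_le_CC (R2_le_QQ h)⟩}
      one_mem' := ⟨R2.one_mem, by
        have e : (⟨1, QQ_le_CC (R2_le_QQ R2.one_mem)⟩ : CC) = 1 := rfl
        rw [e]
        have h2 : χ 1 = 1 := by
          have := hm 1 1 R2.one_mem R2.one_mem
          rw [mul_one] at this
          exact mul_eq_left.1 this.symm
        rw [h2]; group⟩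
      mul_mem' := by
        rintro g h ⟨hg, eg⟩ ⟨hh, eh⟩
        refine ⟨R2.mul_mem hg hh, ?_⟩
        have e : (⟨g * h, QQ_le_CC (R2_le_QQ (R2.mul_mem hg hh))⟩ : CC) =
          ⟨g, QQ_le_CC (R2_le_QQ hg)⟩ * ⟨h, QQ_le_CC (R2_le_QQ hh)⟩ := rfl
        rw [e, hmul _ _ hg hh, eg, eh, hm _ _ hg hh]
      inv_mem' := by
        rintro g ⟨hg, eg⟩
        have e : g⁻¹ = g := by
          rw [inv_eq_iff_mul_eq_one]; exact sq_R2 hg
        show g⁻¹ ∈ {g | _}
        rw [e]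
        exact ⟨hg, eg⟩ }
  have hS : Subgroup.closure (Set.range fun j => (k j : L5)) ≤ S := by
    rw [Subgroup.closure_le]
    rintro _ ⟨j, rfl⟩
    refine ⟨hkR j, ?_⟩
    show rC f * k j * (rC f)⁻¹ * (k j)⁻¹ = χ (k j)
    by_cases hj : j = 3
    · subst hj
      rw [hk3, hz, ← hzc]; group
    · have hC := QQ_le_CC (T_col_mem_QQ j hj)
      have e1 : (k j : L5) = T (Pi.single j 1) (Pi.single 3 1) (single_T j hj) := by rw [hk j hj]
      have e2 : rC f * k j * (rC f)⁻¹ * (k j)⁻¹ = rC (f j • Pi.single 3 1) := by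
        apply Subtype.ext
        show ro f * (k j : L5) * (ro f)⁻¹ * (k j : L5)⁻¹ = ro (f j • Pi.single 3 1)
        rw [e1]
        set b := T (Pi.single j 1) (Pi.single 3 1) (single_T j hj)
        have hb : b⁻¹ = b := by
          rw [inv_eq_iff_mul_eq_one]
          exact sq_R2 (T_col_mem_R2 j hj)
        have e : ro f * b * (ro f)⁻¹ * b⁻¹ = ro f * (b * ro f * b⁻¹) := by rw [ro_inv]; group
        rw [e, conj_ro hC, hb, low_T, vecMul_T, dotProduct_single_one, ← ro_add, ← add_assoc,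
          add_self, zero_add]
      rw [e2]
      show rC ((if χ (k j) = 1 then (0 : ZMod 2) else 1) • Pi.single 3 1) = χ (k j)
      rcases h1 (k j) (hkR j) with h | h
      · rw [if_pos h, h, zero_smul]; exact Subtype.ext ro_zero
      · rw [if_neg (by rw [h]; exact zC_ne), h, one_smul, ← zC_eq]
  intro b hb
  obtain ⟨_, h⟩ := hS (hgen hb)
  exact h

theorem bim_cases2 (b : CC ≃* CC) : bim b R2 = R1 ∨ bim b R2 = R2 := by
  have h1 : bim b R2 ≤ QQ := by
    intro g hg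
    obtain ⟨c, hc, rfl⟩ := mem_bim.1 hg
    rw [← bim_QQ b]
    exact mem_bim.2 ⟨c, R2_le_QQ hc, rfl⟩
  have hc := card_bim b (R2_le_QQ.trans QQ_le_CC)
  rw [card_R2] at hc
  rcases normal_cases h1 (bim_norm b (fun p hp y hy => norm_R2 hp hy)) with h | h | h | h
  · exact absurd hc (by have := card_le_two h; omega)
  · exact Or.inl h
  · exact Or.inr h
  · exfalso
    rw [h, card_QQ] at hc
    omega

theorem not_R2_le_R1 : ¬ R2 ≤ R1 := by
  intro h
  have h1 : Nat.card R2 ≤ 2 := card_le_two (fun y hy => inter (h hy) hy)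
  rw [card_R2] at h1
  omega

theorem bim_R1_eq {b : CC ≃* CC} (h : ∀ e : CC, (e : L5) ∈ R1 → ((b e : CC) : L5) ∈ R1) :
    bim b R1 = R1 := by
  refine Subgroup.eq_of_le_of_card_ge ?_ (by rw [card_bim b R1_le_CC])
  intro g hg
  obtain ⟨c, hc, rfl⟩ := mem_bim.1 hg
  exact h c hc

theorem aut_R2 {b : CC ≃* CC} (h : ∀ e : CC, (e : L5) ∈ R1 → ((b e : CC) : L5) ∈ R1) :
    ∀ e : CC, (e : L5) ∈ R2 → ((b e : CC) : L5) ∈ R2 := by
  have h1 := bim_R1_eq h
  rcases bim_cases2 b with h2 | h2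
  · exfalso
    apply not_R2_le_R1
    intro r hr
    have hrC : r ∈ CC := QQ_le_CC (R2_le_QQ hr)
    have h3 : ((b ⟨r, hrC⟩ : CC) : L5) ∈ bim b R1 := by
      rw [h1, ← h2]
      exact mem_bim.2 ⟨⟨r, hrC⟩, hr, rfl⟩
    obtain ⟨c, hc, e⟩ := mem_bim.1 h3
    have h4 : c = ⟨r, hrC⟩ := b.injective (Subtype.ext e)
    rw [h4] at hc
    exact hc
  · intro e he
    rw [← h2]; exact mem_bim.2 ⟨e, he, rfl⟩

/-- **An automorphism of `CC` mapping `R1` to `R1` is inner.** -/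
theorem aut_inner (b : CC ≃* CC) (h : ∀ e : CC, (e : L5) ∈ R1 → ((b e : CC) : L5) ∈ R1) :
    ∃ p : CC, ∀ g, b g = p * g * p⁻¹ := by
  obtain ⟨p, hp⟩ := exists_act b h
  -- `c := p⁻¹ b p` is trivial on `R1`
  let c : CC ≃* CC := b.trans (MulAut.conj p⁻¹)
  have hc : ∀ g, c g = p⁻¹ * b g * p := by
    intro g
    show p⁻¹ * b g * p⁻¹⁻¹ = _
    rw [inv_inv]
  have hc1 : ∀ f, c (rC f) = rC f := by
    intro f
    rw [hc, hp]; group
  have hzc : ∀ g : CC, zC * g = g * zC := fun g => Subtype.ext (zz_comm g.2).symm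
  have hR1 : ∀ e : CC, (e : L5) ∈ R1 → c e = e := by
    intro e he
    obtain ⟨f, hf⟩ := mem_R1_low'.1 he
    have : e = rC f := Subtype.ext hf
    rw [this, hc1]
  have hR2 : ∀ e : CC, (e : L5) ∈ R2 → ((c e : CC) : L5) ∈ R2 :=
    aut_R2 (fun e he => by rw [hR1 e he]; exact he)
  -- `c` is trivial on `R2 / ⟨zz⟩`
  have hd : ∀ g : CC, (g : L5) ∈ R2 → g⁻¹ * c g = 1 ∨ g⁻¹ * c g = zC := by
    intro g hg
    have h2 : ((g⁻¹ * c g : CC) : L5) ∈ R1 := by
      apply cent_R1 (g⁻¹ * c g).2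
      intro e he
      have he' : ((g * ⟨e, R1_le_CC he⟩ * g⁻¹ : CC) : L5) ∈ R1 := norm_R1 g.2 he
      have h3 := hR1 _ he'
      rw [map_mul, map_mul, map_inv, hR1 ⟨e, R1_le_CC he⟩ he] at h3
      have h4 : g⁻¹ * c g * ⟨e, R1_le_CC he⟩ = ⟨e, R1_le_CC he⟩ * (g⁻¹ * c g) := by
        rw [mul_inv_eq_iff_eq_mul] at h3
        rw [mul_assoc, h3]; group
      exact congrArg Subtype.val h4
    rcases inter h2 (R2.mul_mem (R2.inv_mem hg) (hR2 g hg)) with h3 | h3
    · exact Or.inl (Subtype.ext h3)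
    · exact Or.inr (Subtype.ext h3)
  obtain ⟨a, ha, hχ⟩ := exists_dual (fun g => g⁻¹ * c g) hd (by
      intro g k hg hk
      show (g * k)⁻¹ * c (g * k) = g⁻¹ * c g * (k⁻¹ * c k)
      have e1 : (g * k)⁻¹ * c (g * k) = k⁻¹ * (g⁻¹ * c g) * c k := by rw [map_mul]; group
      rw [e1]
      rcases hd g hg with h3 | h3
      · rw [h3]; group
      · rw [h3, ← hzc]; group) (by rw [aut_zC, inv_mul_cancel])
  -- `c` is conjugation by `a` on `QQ`
  have hQ : ∀ g : CC, (g : L5) ∈ QQ → c g = a * g * a⁻¹ := by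
    have hQ2 : ∀ g : CC, (g : L5) ∈ R2 → c g = a * g * a⁻¹ := by
      intro g hg
      have h3 := hχ g hg
      rw [mul_inv_eq_iff_eq_mul] at h3
      rw [h3]
      have h4 : g * (g⁻¹ * c g) = (g⁻¹ * c g) * g := by
        rcases hd g hg with h5 | h5
        · rw [h5]; group
        · rw [h5, hzc]
      rw [← h4]; group
    have hQ1 : ∀ g : CC, (g : L5) ∈ R1 → c g = a * g * a⁻¹ := by
      intro g hg
      have h3 : a * g = g * a := Subtype.ext (comm_R1 ha hg)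
      rw [hR1 g hg, h3]; group
    intro g hg
    obtain ⟨e, he, k, hk, e1⟩ := exists_mul' hg
    have h3 : g = ⟨e, R1_le_CC he⟩ * ⟨k, QQ_le_CC (R2_le_QQ hk)⟩ := Subtype.ext e1
    rw [h3, map_mul, hQ1 _ he, hQ2 _ hk]; group
  -- `δ g = g⁻¹ a⁻¹ (c g) a` is central
  have hδ : ∀ g : CC, g⁻¹ * (a⁻¹ * c g * a) = 1 ∨ g⁻¹ * (a⁻¹ * c g * a) = zC := by
    intro g
    rcases cent_QQ (g⁻¹ * (a⁻¹ * c g * a)).2 (by
      intro r hr
      set rr : CC := ⟨r, QQ_le_CC hr⟩ with hrr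
      have hr' : ((g * rr * g⁻¹ : CC) : L5) ∈ QQ := norm_QQ g.2 hr
      have h3 := hQ _ hr'
      rw [map_mul, map_mul, map_inv, hQ rr hr] at h3
      -- `c g (a rr a⁻¹) (c g)⁻¹ = a (g rr g⁻¹) a⁻¹`
      have h4 : (a⁻¹ * c g * a) * rr * (a⁻¹ * c g * a)⁻¹ = g * rr * g⁻¹ := by
        calc (a⁻¹ * c g * a) * rr * (a⁻¹ * c g * a)⁻¹
            = a⁻¹ * (c g * (a * rr * a⁻¹) * (c g)⁻¹) * a := by group
          _ = g * rr * g⁻¹ := by rw [h3]; group
      have h5 : g⁻¹ * (a⁻¹ * c g * a) * rr = rr * (g⁻¹ * (a⁻¹ * c g * a)) := by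
        rw [mul_inv_eq_iff_eq_mul] at h4
        rw [mul_assoc, h4]; group
      exact congrArg Subtype.val h5) with h3 | h3
    · exact Or.inl (Subtype.ext h3)
    · exact Or.inr (Subtype.ext h3)
  have hfix : ∀ g : CC, a⁻¹ * c g * a = g := by
    let S : Subgroup L5 :=
      { carrier := {g | ∃ h : g ∈ CC, a⁻¹ * c ⟨g, h⟩ * a = ⟨g, h⟩}
        one_mem' := ⟨CC.one_mem, by
          show a⁻¹ * c 1 * a = 1
          rw [map_one]; group⟩
        mul_mem' := by
          rintro g k ⟨hg, eg⟩ ⟨hk, ek⟩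
          refine ⟨CC.mul_mem hg hk, ?_⟩
          have e1 : (⟨g * k, CC.mul_mem hg hk⟩ : CC) = ⟨g, hg⟩ * ⟨k, hk⟩ := rfl
          rw [e1, map_mul]
          calc a⁻¹ * (c ⟨g, hg⟩ * c ⟨k, hk⟩) * a
              = (a⁻¹ * c ⟨g, hg⟩ * a) * (a⁻¹ * c ⟨k, hk⟩ * a) := by group
            _ = ⟨g, hg⟩ * ⟨k, hk⟩ := by rw [eg, ek]
        inv_mem' := by
          rintro g ⟨hg, eg⟩
          refine ⟨CC.inv_mem hg, ?_⟩
          have e1 : (⟨g⁻¹, CC.inv_mem hg⟩ : CC) = (⟨g, hg⟩ : CC)⁻¹ := rfl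
          rw [e1, map_inv]
          calc a⁻¹ * (c ⟨g, hg⟩)⁻¹ * a = (a⁻¹ * c ⟨g, hg⟩ * a)⁻¹ := by group
            _ = (⟨g, hg⟩ : CC)⁻¹ := by rw [eg] }
    have hS : CC ≤ S := by
      rw [← perf, Subgroup.commutator_le]
      intro g hg k hk
      rw [commutatorElement_def]
      refine ⟨CC.mul_mem (CC.mul_mem (CC.mul_mem hg hk) (CC.inv_mem hg)) (CC.inv_mem hk), ?_⟩
      set gg : CC := ⟨g, hg⟩
      set kk : CC := ⟨k, hk⟩
      have e1 : (⟨g * k * g⁻¹ * k⁻¹, CC.mul_mem (CC.mul_mem (CC.mul_mem hg hk) (CC.inv_mem hg))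
        (CC.inv_mem hk)⟩ : CC) = gg * kk * gg⁻¹ * kk⁻¹ := rfl
      rw [e1, map_mul, map_mul, map_mul, map_inv, map_inv]
      obtain ⟨u, hu, eu⟩ : ∃ u : CC, (u = 1 ∨ u = zC) ∧ a⁻¹ * c gg * a = gg * u :=
        ⟨_, hδ gg, by group⟩
      obtain ⟨v, hv, ev⟩ : ∃ v : CC, (v = 1 ∨ v = zC) ∧ a⁻¹ * c kk * a = kk * v :=
        ⟨_, hδ kk, by group⟩
      have hcen : ∀ w : CC, (w = 1 ∨ w = zC) → ∀ y : CC, Commute w y := by
        rintro w (rfl | rfl) y
        · exact Commute.one_left y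
        · exact hzc y
      calc a⁻¹ * (c gg * c kk * (c gg)⁻¹ * (c kk)⁻¹) * a
          = (a⁻¹ * c gg * a) * (a⁻¹ * c kk * a) * (a⁻¹ * c gg * a)⁻¹ * (a⁻¹ * c kk * a)⁻¹ := by
            group
        _ = (gg * u) * (kk * v) * (gg * u)⁻¹ * (kk * v)⁻¹ := by rw [eu, ev]
        _ = gg * (u * kk) * (v * u⁻¹) * gg⁻¹ * v⁻¹ * kk⁻¹ := by group
        _ = gg * (kk * u) * (u⁻¹ * v) * gg⁻¹ * v⁻¹ * kk⁻¹ := by
            rw [(hcen u hu kk).eq, (hcen v hv u⁻¹).eq]
        _ = gg * kk * (v * gg⁻¹) * v⁻¹ * kk⁻¹ := by group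
        _ = gg * kk * (gg⁻¹ * v) * v⁻¹ * kk⁻¹ := by rw [(hcen v hv gg⁻¹).eq]
        _ = gg * kk * gg⁻¹ * kk⁻¹ := by group
    intro g
    obtain ⟨_, h3⟩ := hS g.2
    exact h3
  refine ⟨p * a, fun g => ?_⟩
  have h3 : c g = a * g * a⁻¹ := by
    conv_rhs => rw [← hfix g]
    group
  have h4 : b g = p * c g * p⁻¹ := by rw [hc]; group
  rw [h4, h3]; group

end Cfsg.Agent.KFacts.TwoSix.Aut
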