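import Cfsg.Agent.SporadicRecognition.HeldInv
import Cfsg.Agent.Held.AffineIso

/-!
# `CC = C(transvection)` in `SL(5, 2)`: rows, blocks, the graph automorphism

`g ∈ CC` is `blk (top g) (low g)`; `ro f` is the element of `R1` with row `f`.
-/

set_option autoImplicit false

namespace Cfsg.Agent.KFacts.TwoSix.Base

open Matrix Cfsg.Agent.SporadicRecognition.HeldModel Cfsg.Agent.Held.AffineIso

/-- `F_2^4` -/
abbrev F4 := Fin 4 → ZMod 2

/-- the lower right block -/
def low (g : L5) : Matrix (Fin 4) (Fin 4) (ZMod 2) :=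
  Matrix.of fun i j => (g : Matrix (Fin 5) (Fin 5) (ZMod 2)) i.succ j.succ

/-- the rest of the first row -/
def top (g : L5) : F4 := fun j => (g : Matrix (Fin 5) (Fin 5) (ZMod 2)) 0 j.succ

theorem low_apply (g : L5) (i j : Fin 4) :
    low g i j = (g : Matrix (Fin 5) (Fin 5) (ZMod 2)) i.succ j.succ := rfl

theorem top_apply (g : L5) (j : Fin 4) :
    top g j = (g : Matrix (Fin 5) (Fin 5) (ZMod 2)) 0 j.succ := rfl

theorem coe_eq {g : L5} (hg : g ∈ CC) :
    (g : Matrix (Fin 5) (Fin 5) (ZMod 2)) = blk (top g) (low g) := by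
  apply eq_blk
  · rw [CC_entry hg (by simp [PC]), Matrix.one_apply_eq]
  · intro i
    rw [CC_entry hg (by simp [PC]), Matrix.one_apply_ne (Fin.succ_ne_zero i)]

theorem ext_CC {g h : L5} (hg : g ∈ CC) (hh : h ∈ CC) (h1 : top g = top h) (h2 : low g = low h) :
    g = h := by
  apply Subtype.ext
  rw [coe_eq hg, coe_eq hh, h1, h2]

theorem blk_inj {f f' : F4} {B B' : Matrix (Fin 4) (Fin 4) (ZMod 2)} (h : blk f B = blk f' B') :
    f = f' ∧ B = B' := by
  constructor
  · funext j
    have := congrFun (congrFun h 0) j.succ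
    simpa using this
  · ext i j
    have := congrFun (congrFun h i.succ) j.succ
    simpa using this

theorem mul_aux {g h : L5} (hg : g ∈ CC) (hh : h ∈ CC) :
    top (g * h) = top h + top g ᵥ* low h ∧ low (g * h) = low g * low h := by
  apply blk_inj
  rw [← coe_eq (CC.mul_mem hg hh), ← blk_mul, ← coe_eq hg, ← coe_eq hh]
  rfl

theorem low_mul {g h : L5} (hg : g ∈ CC) (hh : h ∈ CC) : low (g * h) = low g * low h :=
  (mul_aux hg hh).2

theorem top_mul {g h : L5} (hg : g ∈ CC) (hh : h ∈ CC) : top (g * h) = top h + top g ᵥ* low h :=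
  (mul_aux hg hh).1

theorem low_one : low 1 = 1 := by
  have h1 : blk (top 1) (low 1) = blk 0 1 := by
    rw [← coe_eq CC.one_mem, blk_one]; rfl
  exact (blk_inj h1).2

theorem top_one : top 1 = 0 := by
  have h1 : blk (top 1) (low 1) = blk 0 1 := by
    rw [← coe_eq CC.one_mem, blk_one]; rfl
  exact (blk_inj h1).1

theorem low_inv {g : L5} (hg : g ∈ CC) : low g * low g⁻¹ = 1 := by
  rw [← low_mul hg (CC.inv_mem hg), mul_inv_cancel, low_one]

theorem low_inv' {g : L5} (hg : g ∈ CC) : low g⁻¹ * low g = 1 := by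
  rw [← low_mul (CC.inv_mem hg) hg, inv_mul_cancel, low_one]

/-- the last row -/
theorem low_three {g : L5} (hg : g ∈ CC) (j : Fin 4) : low g 3 j = if j = 3 then 1 else 0 := by
  rw [low_apply, show (3 : Fin 4).succ = (4 : Fin 5) from rfl, CC_entry hg (by simp [PC]),
    Matrix.one_apply]
  revert j; decide

theorem e3_mul {g : L5} (hg : g ∈ CC) : (Pi.single 3 1 : F4) ᵥ* low g = Pi.single 3 1 := by
  funext j
  rw [Matrix.single_one_vecMul, Matrix.row_apply, low_three hg, Pi.single_apply]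

/-- a block matrix with last row `e₄` is in `CC` -/
theorem mem_CC_blk {g : L5} {f : F4} {B : Matrix (Fin 4) (Fin 4) (ZMod 2)}
    (h : (g : Matrix (Fin 5) (Fin 5) (ZMod 2)) = blk f B) (h3 : ∀ j, B 3 j = if j = 3 then 1 else 0) :
    g ∈ CC := by
  rw [mem_CC_iff_pat]
  intro i j hij
  rw [Matrix.sub_apply, sub_eq_zero, h]
  have hcase : j = 0 ∨ i = 4 := by
    revert hij
    simp only [PC, Bool.and_eq_false_iff, decide_eq_false_iff_not, not_not]
    exact fun h => h
  rcases hcase with rfl | rfl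
  · refine Fin.cases ?_ (fun i => ?_) i
    · simp
    · simp
  · have h3' : (4 : Fin 5) = (3 : Fin 4).succ := rfl
    rw [h3']
    refine Fin.cases ?_ (fun j => ?_) j
    · rw [blk_succ_zero, Matrix.one_apply, if_neg (Fin.succ_ne_zero _)]
    · rw [blk_succ_succ, h3, Matrix.one_apply]
      clear hij
      revert j
      decide

/-- the element with first row `(1, f)` -/
def ro (f : F4) : L5 := slBlk f 1 Matrix.det_one

theorem coe_ro (f : F4) : (ro f : Matrix (Fin 5) (Fin 5) (ZMod 2)) = blk f 1 := rfl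

theorem ro_mem (f : F4) : ro f ∈ CC := by
  apply mem_CC_blk (coe_ro f)
  intro j
  rw [Matrix.one_apply]
  revert j; decide

theorem top_ro (f : F4) : top (ro f) = f := by
  funext j
  rw [top_apply, coe_ro, blk_zero_succ]

theorem low_ro (f : F4) : low (ro f) = 1 := by
  ext i j
  rw [low_apply, coe_ro, blk_succ_succ]

theorem ro_add (f f' : F4) : ro (f + f') = ro f * ro f' := by
  apply ext_CC (ro_mem _) (CC.mul_mem (ro_mem _) (ro_mem _))
  · rw [top_ro, top_mul (ro_mem _) (ro_mem _), top_ro, top_ro, low_ro, vecMul_one, add_comm]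
  · rw [low_ro, low_mul (ro_mem _) (ro_mem _), low_ro, low_ro, one_mul]

theorem ro_zero : ro 0 = 1 := by
  apply ext_CC (ro_mem _) CC.one_mem
  · rw [top_ro, top_one]
  · rw [low_ro, low_one]

theorem ro_inj {f f' : F4} (h : ro f = ro f') : f = f' := by
  rw [← top_ro f, ← top_ro f', h]

theorem add_self (f : F4) : f + f = 0 := by
  funext i
  exact CharTwo.add_self_eq_zero (f i)

theorem ro_sq (f : F4) : ro f * ro f = 1 := by rw [← ro_add, add_self, ro_zero]

theorem ro_inv (f : F4) : (ro f)⁻¹ = ro f := inv_eq_of_mul_eq_one_left (ro_sq f)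

theorem ro_comm (f f' : F4) : ro f * ro f' = ro f' * ro f := by
  rw [← ro_add, ← ro_add, add_comm]

/-- `g⁻¹ (ro f) g = ro (f · low g)` -/
theorem ro_conj {g : L5} (hg : g ∈ CC) (f : F4) : ro f * g = g * ro (f ᵥ* low g) := by
  apply ext_CC (CC.mul_mem (ro_mem _) hg) (CC.mul_mem hg (ro_mem _))
  · rw [top_mul (ro_mem _) hg, top_mul hg (ro_mem _), top_ro, top_ro, low_ro, vecMul_one, add_comm]
  · rw [low_mul (ro_mem _) hg, low_mul hg (ro_mem _), low_ro, low_ro, one_mul, mul_one]

theorem zz_eq : zz = ro (Pi.single 3 1) := by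
  apply ext_CC (mem_CC.2 rfl) (ro_mem _)
  · rw [top_ro]
    funext j
    rw [top_apply, coe_zz, transvection_apply', Pi.single_apply]
    revert j; decide
  · rw [low_ro]
    ext i j
    rw [low_apply, coe_zz, transvection_apply', Matrix.one_apply]
    revert i j; decide

theorem mem_R1_low {g : L5} : g ∈ R1 ↔ g ∈ CC ∧ low g = 1 := by
  constructor
  · intro h
    have h' : ∀ i j, PR1 i j = false → (g : Matrix (Fin 5) (Fin 5) (ZMod 2)) i j =
        (1 : Matrix (Fin 5) (Fin 5) (ZMod 2)) i j := by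
      intro i j hij
      have := h i j hij
      rwa [Matrix.sub_apply, sub_eq_zero] at this
    refine ⟨?_, ?_⟩
    · rw [mem_CC_iff_pat]
      intro i j hij
      apply h i j
      revert hij
      revert i j; decide
    · ext i j
      rw [low_apply, h' _ _ (by simp [PR1]), Matrix.one_apply, Matrix.one_apply]
      simp
  · rintro ⟨hg, h⟩ i j hij
    rw [Matrix.sub_apply, sub_eq_zero, coe_eq hg, h]
    revert hij
    refine Fin.cases ?_ (fun i => ?_) i <;> refine Fin.cases ?_ (fun j => ?_) j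
    · intro _; simp
    · intro hij; exfalso; revert hij; revert j; decide
    · intro _; simp
    · intro _; rw [blk_succ_succ, Matrix.one_apply, Matrix.one_apply]; simp

theorem mem_R1_low' {g : L5} : g ∈ R1 ↔ ∃ f, g = ro f := by
  rw [mem_R1_low]
  constructor
  · rintro ⟨hg, h⟩
    exact ⟨top g, ext_CC hg (ro_mem _) (top_ro _).symm (by rw [h, low_ro])⟩
  · rintro ⟨f, rfl⟩
    exact ⟨ro_mem f, low_ro f⟩

theorem ro_mem_R1 (f : F4) : ro f ∈ R1 := mem_R1_low'.2 ⟨f, rfl⟩

theorem R1_le_CC : R1 ≤ CC := fun _ h => (mem_R1_low.1 h).1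

theorem mem_QQ_low {g : L5} : g ∈ QQ ↔ g ∈ CC ∧ ∀ i j : Fin 4, j ≠ 3 →
    low g i j = if i = j then 1 else 0 := by
  constructor
  · intro h
    have h' : ∀ i j, PQ i j = false → (g : Matrix (Fin 5) (Fin 5) (ZMod 2)) i j =
        (1 : Matrix (Fin 5) (Fin 5) (ZMod 2)) i j := by
      intro i j hij
      have := h i j hij
      rwa [Matrix.sub_apply, sub_eq_zero] at this
    refine ⟨QQ_le_CC h, ?_⟩
    intro i j hj
    rw [low_apply, h' _ _ ?_, Matrix.one_apply]
    · simp
    · revert hj; revert i j; decide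
  · rintro ⟨hg, h⟩ i j hij
    rw [Matrix.sub_apply, sub_eq_zero]
    revert hij
    refine Fin.cases ?_ (fun i => ?_) i <;> refine Fin.cases ?_ (fun j => ?_) j
    · intro _; exact CC_entry hg (by simp [PC])
    · intro hij; exfalso; revert hij; revert j; decide
    · intro _; exact CC_entry hg (by simp [PC])
    · intro hij
      by_cases hj : j = 3
      · subst hj
        have hi : i = 3 := by
          revert hij; revert i; decide
        subst hi
        exact CC_entry hg (by simp [PC])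
      · have := h i j hj
        rw [low_apply] at this
        rw [this, Matrix.one_apply]; simp

/-! ### The graph automorphism -/

theorem x_sq (i j : Fin 5) (h : i ≠ j) : x i j h * x i j h = 1 := by
  apply Subtype.ext
  show transvection i j (1 : ZMod 2) * transvection i j 1 = 1
  rw [Matrix.transvection_mul_transvection_same _ _ h, CharTwo.add_self_eq_zero,
    Matrix.transvection_zero]

theorem x_inv (i j : Fin 5) (h : i ≠ j) : (x i j h)⁻¹ = x i j h :=
  inv_eq_of_mul_eq_one_left (x_sq i j h)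

theorem tau_mem_CC_iff {g : L5} : tau g ∈ CC ↔ g ∈ CC :=
  ⟨fun h => by rw [← tau_tau g]; exact tau_mem_CC h, tau_mem_CC⟩
theorem tau_mem_QQ_iff {g : L5} : tau g ∈ QQ ↔ g ∈ QQ :=
  ⟨fun h => by rw [← tau_tau g]; exact tau_mem_QQ h, tau_mem_QQ⟩
theorem tau_mem_R2_iff {g : L5} : tau g ∈ R2 ↔ g ∈ R1 :=
  ⟨fun h => by rw [← tau_tau g]; exact tau_mem_R1 h, tau_mem_R2⟩
theorem tau_mem_R1_iff {g : L5} : tau g ∈ R1 ↔ g ∈ R2 :=
  ⟨fun h => by rw [← tau_tau g]; exact tau_mem_R2 h, tau_mem_R1⟩

end Cfsg.Agent.KFacts.TwoSix.Base
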