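import Cfsg.Agent.KFacts.TwoSix.OfSt
import Cfsg.Agent.KFacts.M24Two.CentZ

/-!
# `C_{M24}(z) = CC` in the letters of `KFacts/M24Pair/Letters`

`exists_f`: there is `f : CC →* M24` with `Hyp z f` and `f (gx xC n) = xx n` for the twelve letters;
`im f R1 = E1`, `im f R2 = E2`.
-/

set_option autoImplicit false

namespace Cfsg.Agent.KFacts.TwoSix.M24

open Cfsg Cfsg.Agent.SporadicRecognition.HeldModel Cfsg.Agent.Held.AffineIso
  Cfsg.Agent.KFacts.TwoSix.Base Cfsg.Agent.KFacts.TwoSix.Facts Cfsg.Agent.KFacts.TwoSix.Aut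
  Cfsg.Agent.KFacts.TwoSix.U Cfsg.Agent.KFacts.TwoSix.OfSt Cfsg.Agent.KFacts.TwoSix.SheetDef
open Cfsg.Agent.Held.Letters (St)
open Cfsg.Agent.KFacts.M24Pair.Letters (xx weqb weq X)
open Cfsg.Agent.KFacts.M24Two.CentZ (z E1 E2 C)

/-- the root elements of `M24`, indices from 0 -/
noncomputable def xM (i j : ℕ) : M24 := X (i + 1) (j + 1)

theorem gx_xM (n : ℕ) (h : n < 12) : Held.Letters.gx xM n = xx n := by
  interval_cases n <;> rfl

theorem ev_xM (r : List ℕ) (hr : ∀ l ∈ r, l < 12) :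
    SporadicRecognition.CosetCert.ev (Held.Letters.gx xM) r = M24Pair.Letters.ev r := by
  induction r with
  | nil => rfl
  | cons l r ih =>
    rw [SporadicRecognition.CosetCert.ev_cons, M24Pair.Letters.ev_cons, gx_xM l (hr l (by simp)),
      ih fun j hj => hr j (by simp [hj])]

theorem rels_ok : ∀ r ∈ Held.Letters.relsP, weqb r [] = true := by decide +kernel

theorem st : St xM where
  sq := by
    intro n
    rcases Nat.lt_or_ge n 12 with h | h
    · rw [gx_xM n h]; exact M24Pair.Letters.xx_sq h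
    · rw [Held.Letters.gx_of_ge _ h, one_mul]
  rel := by
    intro r hr
    rw [ev_xM r (Held.Letters.relsP_lt r hr), weq (rels_ok r hr), M24Pair.Letters.ev_nil]

theorem exists_f : ∃ f : CC →* M24, Hyp z f ∧ ∀ n < 12, f (Held.Letters.gx xC n) = xx n := by
  obtain ⟨f, hf, h⟩ := hyp st M24Two.CentZ.z_ne M24Two.CentZ.card_C.le
  exact ⟨f, hf, fun n hn => (h n hn).trans (gx_xM n hn)⟩

/-! ### `R1` and `R2` -/

theorem x0_eq (j : Fin 4) : x 0 j.succ (Fin.succ_ne_zero j).symm = ro (Pi.single j 1) := by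
  apply ext_CC (x_mem _ (Fin.succ_ne_zero j) (by decide)) (ro_mem _)
  · rw [top_ro]
    funext k
    rw [top_apply, coe_x, transvection_apply', Pi.single_apply]
    revert j k; decide
  · rw [low_ro]
    ext i k
    rw [low_apply, coe_x, transvection_apply', Matrix.one_apply]
    revert j i k; decide

theorem ro_single_mem {G : Type*} [Group G] {f : CC →* G} {H : Subgroup G} (j : Fin 4) (c : ZMod 2)
    (h : f (xC 0 (j + 1)) ∈ H) : f (rC (Pi.single j c)) ∈ H := by
  have hc : c = 0 ∨ c = 1 := by revert c; decide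
  rcases hc with rfl | rfl
  · have : rC (Pi.single j 0) = 1 := Subtype.ext (by
      show ro (Pi.single j 0) = 1
      rw [Pi.single_zero, ro_zero])
    rw [this, map_one]; exact H.one_mem
  · have e : xC 0 (j + 1) = rC (Pi.single j 1) := by
      have h1 := xC_eq (i := 0) (j := j.succ) (Fin.succ_ne_zero j).symm (Fin.succ_ne_zero j) (by decide)
      have h2 : ((j.succ : Fin 5) : ℕ) = (j : ℕ) + 1 := rfl
      rw [h2] at h1
      refine h1.trans (Subtype.ext ?_)
      exact x0_eq j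
    rw [← e]; exact h

theorem im_R1_le {G : Type*} [Group G] {f : CC →* G} {H : Subgroup G}
    (h : ∀ j < 4, f (xC 0 (j + 1)) ∈ H) : im f R1 ≤ H := by
  rintro _ ⟨p, hp, rfl⟩
  obtain ⟨v, hv⟩ := mem_R1_low'.1 (show (p : L5) ∈ R1 from hp)
  have e : p = rC (Pi.single 0 (v 0)) * rC (Pi.single 1 (v 1)) * rC (Pi.single 2 (v 2)) *
      rC (Pi.single 3 (v 3)) := by
    rw [← rC_add, ← rC_add, ← rC_add]
    apply Subtype.ext
    rw [hv]
    show ro v = ro _
    congr 1
    funext k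
    simp only [Pi.add_apply, Pi.single_apply]
    fin_cases k <;> simp
  rw [e, map_mul, map_mul, map_mul]
  exact H.mul_mem (H.mul_mem (H.mul_mem (ro_single_mem 0 _ (h 0 (by norm_num)))
    (ro_single_mem 1 _ (h 1 (by norm_num)))) (ro_single_mem 2 _ (h 2 (by norm_num))))
    (ro_single_mem 3 _ (h 3 (by norm_num)))

theorem tauE_xC (j : Fin 4) : tauE (xC 0 (j + 1)) = xC (3 - j) 4 := by
  have h1 := xC_eq (i := 0) (j := j.succ) (Fin.succ_ne_zero j).symm (Fin.succ_ne_zero j) (by decide)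
  have h2 : ((j.succ : Fin 5) : ℕ) = (j : ℕ) + 1 := rfl
  rw [h2] at h1
  have h4 : ∀ j : Fin 4, ((j.succ.rev : Fin 5) : ℕ) = 3 - j := by decide
  have h5 : ∀ j : Fin 4, j.succ.rev ≠ (4 : Fin 5) := by decide
  have h3 := xC_eq (i := j.succ.rev) (j := 4) (h5 j) (by decide) (h5 j)
  rw [h4] at h3
  refine Eq.trans ?_ h3.symm
  have h6 : ((0 : Fin 5) : ℕ) = 0 := rfl
  rw [h6] at h1
  rw [h1]
  apply Subtype.ext
  exact tau_x 0 j.succ (Fin.succ_ne_zero j).symm

theorem im_R2_le {G : Type*} [Group G] {f : CC →* G} {H : Subgroup G}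
    (h : ∀ i < 4, f (xC i 4) ∈ H) : im f R2 ≤ H := by
  have h1 : im (f.comp tauE.toMonoidHom) R1 ≤ H := by
    apply im_R1_le
    intro j hj
    show f (tauE (xC 0 (j + 1))) ∈ H
    have := tauE_xC ⟨j, hj⟩
    rw [show (((⟨j, hj⟩ : Fin 4) : ℕ)) = j from rfl] at this
    rw [this]
    exact h _ (by omega)
  rintro _ ⟨p, hp, rfl⟩
  apply h1
  refine ⟨tauE p, tau_mem_R1_iff.2 hp, ?_⟩
  show f (tauE (tauE p)) = f p
  rw [tauE_tauE]

theorem xC_mem_R1 {j : ℕ} (hj : j < 4) : ((xC 0 (j + 1) : CC) : L5) ∈ R1 := by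
  have h1 := xC_eq (i := 0) (j := Fin.succ (⟨j, hj⟩ : Fin 4)) (Fin.succ_ne_zero _).symm (Fin.succ_ne_zero _)
    (by decide)
  have h2 : ((Fin.succ (⟨j, hj⟩ : Fin 4) : Fin 5) : ℕ) = j + 1 := rfl
  rw [h2] at h1
  have h6 : ((0 : Fin 5) : ℕ) = 0 := rfl
  rw [h6] at h1
  rw [h1]
  show x 0 (Fin.succ (⟨j, hj⟩ : Fin 4)) (Fin.succ_ne_zero _).symm ∈ R1
  rw [x0_eq]
  exact ro_mem_R1 _

theorem xC_mem_R2 {i : ℕ} (hi : i < 4) : ((xC i 4 : CC) : L5) ∈ R2 := by
  have h1 := tauE_xC (⟨3 - i, by omega⟩ : Fin 4)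
  have h2 : 3 - ((⟨3 - i, by omega⟩ : Fin 4) : ℕ) = i := by
    show 3 - (3 - i) = i
    omega
  rw [h2] at h1
  rw [← h1]
  exact tau_mem_R2_iff.2 (xC_mem_R1 (by show 3 - i < 4; omega))

section
variable {f : CC →* M24}

theorem im_R1 (hf : ∀ n < 12, f (Held.Letters.gx xC n) = xx n) : im f R1 = E1 := by
  apply le_antisymm
  · apply im_R1_le
    intro j hj
    interval_cases j
    · rw [show f (xC 0 (0 + 1)) = xx 0 from hf 0 (by norm_num)]
      exact M24Two.CentZ.xx_mem (by decide)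
    · rw [show f (xC 0 (1 + 1)) = xx 1 from hf 1 (by norm_num)]
      exact M24Two.CentZ.xx_mem (by decide)
    · rw [show f (xC 0 (2 + 1)) = xx 2 from hf 2 (by norm_num)]
      exact M24Two.CentZ.xx_mem (by decide)
    · rw [show f (xC 0 (3 + 1)) = xx 3 from hf 3 (by norm_num)]
      exact M24Two.CentZ.xx_mem (by decide)
  · apply M24Two.CentZ.cl_le
    intro r hr
    have h4 : r < 4 := by revert r; decide
    rw [← hf r (by omega)]
    refine ⟨_, ?_, rfl⟩
    show ((Held.Letters.gx xC r : CC) : L5) ∈ R1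
    interval_cases r
    · exact xC_mem_R1 (j := 0) (by norm_num)
    · exact xC_mem_R1 (j := 1) (by norm_num)
    · exact xC_mem_R1 (j := 2) (by norm_num)
    · exact xC_mem_R1 (j := 3) (by norm_num)

theorem im_R2 (hf : ∀ n < 12, f (Held.Letters.gx xC n) = xx n) : im f R2 = E2 := by
  apply le_antisymm
  · apply im_R2_le
    intro i hi
    interval_cases i
    · rw [show f (xC 0 4) = xx 3 from hf 3 (by norm_num)]
      exact M24Two.CentZ.xx_mem (by decide)
    · rw [show f (xC 1 4) = xx 6 from hf 6 (by norm_num)]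
      exact M24Two.CentZ.xx_mem (by decide)
    · rw [show f (xC 2 4) = xx 8 from hf 8 (by norm_num)]
      exact M24Two.CentZ.xx_mem (by decide)
    · rw [show f (xC 3 4) = xx 9 from hf 9 (by norm_num)]
      exact M24Two.CentZ.xx_mem (by decide)
  · apply M24Two.CentZ.cl_le
    intro r hr
    have h12 : r < 12 := by revert r; decide
    rw [← hf r h12]
    refine ⟨_, ?_, rfl⟩
    show ((Held.Letters.gx xC r : CC) : L5) ∈ R2
    have h4 : r = 3 ∨ r = 6 ∨ r = 8 ∨ r = 9 := by simpa using hr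
    rcases h4 with rfl | rfl | rfl | rfl
    · exact xC_mem_R2 (i := 0) (by norm_num)
    · exact xC_mem_R2 (i := 1) (by norm_num)
    · exact xC_mem_R2 (i := 2) (by norm_num)
    · exact xC_mem_R2 (i := 3) (by norm_num)

end

end Cfsg.Agent.KFacts.TwoSix.M24
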