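import Cfsg.Agent.KFacts.TwoSix.Facts

/-!
# `CC = 2^{1+6}:L3(2)`: pairing, transitivity, the normal subgroups of `CC` inside `QQ`

* `pair`, `pair_left`, `pair_right`: `R1 × QQ / R1 → ⟨zz⟩`;
* `trans_R1`: `CC` is transitive on `R1 - ⟨zz⟩`;
* `normal_cases`: a subgroup of `QQ` normalised by `CC` is `≤ ⟨zz⟩`, `R1`, `R2` or `QQ`;
* `core`: a 2-subgroup of `CC` normalised by `CC` is `≤ QQ`.
-/

set_option autoImplicit false

namespace Cfsg.Agent.KFacts.TwoSix.Normal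

open Matrix Cfsg.Agent.SporadicRecognition.HeldModel Cfsg.Agent.Held.AffineIso
  Cfsg.Agent.KFacts.TwoSix.Base Cfsg.Agent.KFacts.TwoSix.Facts

/-! ### Pairing -/

theorem pair {a r : L5} (ha : a ∈ R1) (hr : r ∈ QQ) :
    a * r * a⁻¹ * r⁻¹ = 1 ∨ a * r * a⁻¹ * r⁻¹ = zz := by
  obtain ⟨f, rfl⟩ := mem_R1_low'.1 ha
  have hC := QQ_le_CC hr
  have e : ro f * r * (ro f)⁻¹ * r⁻¹ = ro f * (r * ro f * r⁻¹) := by rw [ro_inv]; group
  rw [e, conj_ro hC, ← ro_add]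
  apply ro_eq_one_or
  intro j hj
  have h1 := (mem_QQ_low.1 (QQ.inv_mem hr)).2
  rw [Pi.add_apply, Matrix.vecMul, dotProduct, Finset.sum_eq_single j]
  · rw [h1 j j hj, if_pos rfl, mul_one]
    exact CharTwo.add_self_eq_zero _
  · intro k _ hk
    rw [h1 k j hj, if_neg hk, mul_zero]
  · intro h; exact absurd (Finset.mem_univ _) h

theorem pair_left {a : L5} (ha : a ∈ R1) (h1 : a ≠ 1) (hz : a ≠ zz) :
    ∃ b ∈ R2, a * b * a⁻¹ * b⁻¹ = zz := by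
  obtain ⟨f, rfl⟩ := mem_R1_low'.1 ha
  have h0 : f ≠ 0 := by rintro rfl; exact h1 ro_zero
  have h3 : f ≠ Pi.single 3 1 := by rintro rfl; exact hz zz_eq.symm
  obtain ⟨j, hj, hfj⟩ := single_ne h0 h3
  refine ⟨_, T_col_mem_R2 j hj, ?_⟩
  have hC := QQ_le_CC (T_col_mem_QQ j hj)
  set b := T (Pi.single j 1) (Pi.single 3 1) (single_T j hj)
  have hb : b⁻¹ = b := by
    rw [inv_eq_iff_mul_eq_one]
    exact sq_R2 (T_col_mem_R2 j hj)
  have e : ro f * b * (ro f)⁻¹ * b⁻¹ = ro f * (b * ro f * b⁻¹) := by rw [ro_inv]; group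
  rw [e, conj_ro hC, hb, low_T, vecMul_T, dotProduct_single_one, hfj, one_smul, ← ro_add,
    ← add_assoc, add_self, zero_add, zz_eq]

theorem pair_right {r : L5} (hr : r ∈ QQ) (h1 : r ∉ R1) : ∃ a ∈ R1, a * r * a⁻¹ * r⁻¹ = zz := by
  by_contra hcon
  push Not at hcon
  apply h1
  apply cent_R1 (QQ_le_CC hr)
  intro e he
  rcases pair he hr with h | h
  · rw [mul_inv_eq_one] at h
    rw [mul_inv_eq_iff_eq_mul] at h
    exact h.symm
  · exact absurd h (hcon e he)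

/-! ### Transitivity -/

theorem exists_u : ∀ f φ : F4, f ≠ 0 → f ≠ Pi.single 3 1 → φ = f ∨ φ = f + Pi.single 3 1 ∨
    ∃ u : F4, u 3 = 0 ∧ f ⬝ᵥ u = 1 ∧ φ ⬝ᵥ u = 0 := by
  decide +kernel

theorem exists_u' : ∀ f φ : F4, f ≠ 0 → f ≠ Pi.single 3 1 → φ ≠ 0 → φ ≠ Pi.single 3 1 →
    ∃ u : F4, u 3 = 0 ∧ f ⬝ᵥ u = 1 ∧ (f + φ) ⬝ᵥ u = 0 := by
  intro f φ h0 h3 h0' h3'
  rcases exists_u f (f + φ) h0 h3 with h | h | h
  · exact absurd (add_eq_left.1 h) h0'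
  · exact absurd (add_left_cancel h) h3'
  · exact h

theorem trans_R1 {a b : L5} (ha : a ∈ R1) (ha1 : a ≠ 1) (haz : a ≠ zz) (hb : b ∈ R1)
    (hb1 : b ≠ 1) (hbz : b ≠ zz) : ∃ p ∈ CC, p * a * p⁻¹ = b := by
  obtain ⟨f, rfl⟩ := mem_R1_low'.1 ha
  obtain ⟨φ, rfl⟩ := mem_R1_low'.1 hb
  obtain ⟨u, h3, hf, hφ⟩ := exists_u' f φ (by rintro rfl; exact ha1 ro_zero)
    (by rintro rfl; exact haz zz_eq.symm) (by rintro rfl; exact hb1 ro_zero)
    (by rintro rfl; exact hbz zz_eq.symm)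
  refine ⟨(T u (f + φ) hφ)⁻¹, CC.inv_mem (T_mem hφ h3), ?_⟩
  rw [inv_inv, ro_T f hφ h3, hf, one_smul, ← add_assoc, add_self, zero_add]

theorem trans_R2 {a b : L5} (ha : a ∈ R2) (ha1 : a ≠ 1) (haz : a ≠ zz) (hb : b ∈ R2)
    (hb1 : b ≠ 1) (hbz : b ≠ zz) : ∃ p ∈ CC, p * a * p⁻¹ = b := by
  have hne : ∀ c : L5, c ≠ 1 → tau c ≠ 1 := fun c hc h => hc (tau_inj (by rw [h, map_one]))
  have hne' : ∀ c : L5, c ≠ zz → tau c ≠ zz := fun c hc h => hc (tau_inj (by rw [h, tau_zz]))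
  obtain ⟨p, hp, e⟩ := trans_R1 (tau_mem_R1 ha) (hne a ha1) (hne' a haz) (tau_mem_R1 hb) (hne b hb1)
    (hne' b hbz)
  refine ⟨tau p, tau_mem_CC hp, ?_⟩
  apply tau_inj
  rw [map_mul, map_mul, map_inv, tau_tau, e]

/-! ### Normal subgroups -/

theorem R1_le_of_mem {Y : Subgroup L5} (hY : ∀ p ∈ CC, ∀ y ∈ Y, p * y * p⁻¹ ∈ Y) {y : L5}
    (hy : y ∈ Y) (h1 : y ∈ R1) (hy1 : y ≠ 1) (hyz : y ≠ zz) : R1 ≤ Y := by
  obtain ⟨f, rfl⟩ := mem_R1_low'.1 h1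
  have h0 : f ≠ 0 := by rintro rfl; exact hy1 ro_zero
  have h3 : f ≠ Pi.single 3 1 := by rintro rfl; exact hyz zz_eq.symm
  have key : ∀ φ u : F4, u 3 = 0 → f ⬝ᵥ u = 1 → φ ⬝ᵥ u = 0 → ro φ ∈ Y := by
    intro φ u hu hf hφ
    have h4 := hY _ (CC.inv_mem (T_mem hφ hu)) _ hy
    rw [inv_inv, ro_T f hφ hu, hf, one_smul, ro_add] at h4
    exact (Y.mul_mem_cancel_left hy).1 h4
  have hz : ro (Pi.single 3 1) ∈ Y := by
    rcases exists_u f (Pi.single 3 1) h0 h3 with h | h | ⟨u, hu, hf, hφ⟩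
    · exact absurd h.symm h3
    · exfalso
      apply h0
      have := congrArg (fun g => g + Pi.single 3 1) h
      simp only [add_assoc, add_self, add_zero] at this
      exact this.symm
    · exact key _ u hu hf hφ
  intro e he
  obtain ⟨φ, rfl⟩ := mem_R1_low'.1 he
  rcases exists_u f φ h0 h3 with h | h | ⟨u, hu, hf, hφ⟩
  · rw [h]; exact hy
  · rw [h, ro_add]; exact Y.mul_mem hy hz
  · exact key _ u hu hf hφ

/-- the image under the graph automorphism -/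
def img (Y : Subgroup L5) : Subgroup L5 := Y.comap tau

theorem mem_img {Y : Subgroup L5} {g : L5} : g ∈ img Y ↔ tau g ∈ Y := Iff.rfl

theorem img_norm {Y : Subgroup L5} (hY : ∀ p ∈ CC, ∀ y ∈ Y, p * y * p⁻¹ ∈ Y) :
    ∀ p ∈ CC, ∀ y ∈ img Y, p * y * p⁻¹ ∈ img Y := by
  intro p hp y hy
  rw [mem_img, map_mul, map_mul, map_inv]
  exact hY _ (tau_mem_CC hp) _ hy

theorem R2_le_of_mem {Y : Subgroup L5} (hY : ∀ p ∈ CC, ∀ y ∈ Y, p * y * p⁻¹ ∈ Y) {y : L5}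
    (hy : y ∈ Y) (h1 : y ∈ R2) (hy1 : y ≠ 1) (hyz : y ≠ zz) : R2 ≤ Y := by
  have h2 : R1 ≤ img Y := by
    refine R1_le_of_mem (img_norm hY) (y := tau y) ?_ (tau_mem_R1 h1) ?_ ?_
    · rw [mem_img, tau_tau]; exact hy
    · intro h; exact hy1 (tau_inj (by rw [h, map_one]))
    · intro h; exact hyz (tau_inj (by rw [h, tau_zz]))
  intro e he
  have := h2 (tau_mem_R1 he)
  rwa [mem_img, tau_tau] at this

theorem exists_uφ : ∀ f c : F4, f ≠ 0 → f ≠ Pi.single 3 1 → c ≠ 0 → c 3 = 0 →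
    ∃ u φ : F4, u 3 = 0 ∧ φ ⬝ᵥ u = 0 ∧ φ ⬝ᵥ c = 0 ∧ f ⬝ᵥ u = 1 ∧ φ ≠ 0 ∧ φ ≠ Pi.single 3 1 := by
  decide +kernel

theorem low_QQ {g : L5} (hg : g ∈ QQ) :
    ∃ c : F4, c 3 = 0 ∧ low g = 1 + Matrix.vecMulVec c (Pi.single 3 1) := by
  refine ⟨fun i => if i = 3 then 0 else low g i 3, if_pos rfl, ?_⟩
  ext i j
  rw [Matrix.add_apply, Matrix.vecMulVec_apply, Matrix.one_apply, Pi.single_apply]
  by_cases hj : j = 3
  · subst hj
    rw [if_pos rfl, mul_one]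
    by_cases hi : i = 3
    · subst hi
      rw [if_pos rfl, if_pos rfl, low_three (QQ_le_CC hg), if_pos rfl, add_zero]
    · rw [if_neg hi, if_neg hi, zero_add]
  · rw [if_neg hj, mul_zero, add_zero]
    exact (mem_QQ_low.1 hg).2 i j hj

theorem QQ_le_of_mem {Y : Subgroup L5} (hY : ∀ p ∈ CC, ∀ y ∈ Y, p * y * p⁻¹ ∈ Y) {y : L5}
    (hy : y ∈ Y) (hQ : y ∈ QQ) (h1 : y ∉ R1) (h2 : y ∉ R2) : QQ ≤ Y := by
  have hC := QQ_le_CC hQ
  obtain ⟨b, hb, e, hlb⟩ := exists_mul hQ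
  obtain ⟨c, hc3, hc⟩ := low_QQ hQ
  have hc0 : c ≠ 0 := by
    rintro rfl
    apply h1
    rw [mem_R1_low]
    refine ⟨hC, ?_⟩
    rw [hc]; simp
  have hf0 : top y ≠ 0 := by
    intro h
    apply h2
    rw [e, h, ro_zero, mul_one]; exact hb
  have hf3 : top y ≠ Pi.single 3 1 := by
    intro h
    apply h2
    rw [e, h, ← zz_eq]; exact R2.mul_mem hb zz_mem_R2
  obtain ⟨u, φ, hu3, hφu, hφc, hfu, hφ0, hφ3⟩ := exists_uφ (top y) c hf0 hf3 hc0 hc3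
  have hT := T_mem hφu hu3
  have hR1 : R1 ≤ Y := by
    have key : (T u φ hφu)⁻¹ * y * T u φ hφu = y * ro φ := by
      rw [mul_assoc, inv_mul_eq_iff_eq_mul]
      apply ext_CC (CC.mul_mem hC hT) (CC.mul_mem hT (CC.mul_mem hC (ro_mem _)))
      · rw [top_mul hC hT, top_T, zero_add, low_T, vecMul_T, hfu, one_smul,
          top_mul hT (CC.mul_mem hC (ro_mem _)), top_T, Matrix.zero_vecMul, add_zero,
          top_mul hC (ro_mem _), top_ro, low_ro, vecMul_one, add_comm]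
      · have hCU : Matrix.vecMulVec c (Pi.single 3 1) * Matrix.vecMulVec u φ = 0 := by
          rw [Matrix.vecMulVec_mul_vecMulVec, single_one_dotProduct, hu3, zero_smul]
          ext i j
          rw [Matrix.vecMulVec_apply, Pi.zero_apply, mul_zero]; rfl
        have hUC : Matrix.vecMulVec u φ * Matrix.vecMulVec c (Pi.single 3 1 : F4) = 0 := by
          rw [Matrix.vecMulVec_mul_vecMulVec, hφc, zero_smul]
          ext i j
          rw [Matrix.vecMulVec_apply, Pi.zero_apply, mul_zero]; rfl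
        rw [low_mul hC hT, low_mul hT (CC.mul_mem hC (ro_mem _)), low_mul hC (ro_mem _), low_ro,
          mul_one, low_T, hc]
        have e1 : (1 + Matrix.vecMulVec c (Pi.single 3 1)) * (1 + Matrix.vecMulVec u φ) =
            1 + Matrix.vecMulVec u φ + Matrix.vecMulVec c (Pi.single 3 1) := by
          rw [add_mul, one_mul, mul_add, mul_one, hCU, add_zero]
        have e2 : (1 + Matrix.vecMulVec u φ) * (1 + Matrix.vecMulVec c (Pi.single 3 1)) =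
            1 + Matrix.vecMulVec c (Pi.single 3 1) + Matrix.vecMulVec u φ := by
          rw [add_mul, one_mul, mul_add, mul_one, hUC, add_zero]
        rw [e1, e2, add_right_comm]
    have h4 := hY _ (CC.inv_mem hT) _ hy
    rw [inv_inv, key] at h4
    have h5 := (Y.mul_mem_cancel_left hy).1 h4
    refine R1_le_of_mem hY h5 (ro_mem_R1 φ) ?_ ?_
    · intro h; rw [← ro_zero] at h; exact hφ0 (ro_inj h)
    · intro h; rw [zz_eq] at h; exact hφ3 (ro_inj h)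
  have hbY : b ∈ Y := by
    have h4 : b = y * ro (top y) := by
      conv_rhs => rw [e]
      rw [mul_assoc]
      have : ro (top y) * ro (top (b * ro (top y))) = 1 := by rw [← e]; exact ro_sq _
      rw [this, mul_one]
    rw [h4]
    exact Y.mul_mem hy (hR1 (ro_mem_R1 _))
  have hR2 : R2 ≤ Y := by
    refine R2_le_of_mem hY hbY hb ?_ ?_
    · rintro rfl
      apply h1; rw [e, one_mul]; exact ro_mem_R1 _
    · rintro rfl
      apply h1; rw [e]; exact R1.mul_mem zz_mem_R1 (ro_mem_R1 _)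
  intro g hg
  obtain ⟨a, ha, b', hb', rfl⟩ := exists_mul' hg
  exact Y.mul_mem (hR1 ha) (hR2 hb')

/-- **The normal subgroups of `CC` in `QQ`.** -/
theorem normal_cases {Y : Subgroup L5} (hYQ : Y ≤ QQ) (hY : ∀ p ∈ CC, ∀ y ∈ Y, p * y * p⁻¹ ∈ Y) :
    (∀ y ∈ Y, y = 1 ∨ y = zz) ∨ Y = R1 ∨ Y = R2 ∨ Y = QQ := by
  by_cases h0 : ∀ y ∈ Y, y = 1 ∨ y = zz
  · exact Or.inl h0
  right
  push Not at h0
  obtain ⟨y, hy, hy1, hyz⟩ := h0
  by_cases h1 : Y ≤ R1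
  · left
    exact le_antisymm h1 (R1_le_of_mem hY hy (h1 hy) hy1 hyz)
  right
  by_cases h2 : Y ≤ R2
  · left
    exact le_antisymm h2 (R2_le_of_mem hY hy (h2 hy) hy1 hyz)
  right
  apply le_antisymm hYQ
  rw [SetLike.not_le_iff_exists] at h1 h2
  obtain ⟨b, hb, hb1⟩ := h1
  obtain ⟨a, ha, ha2⟩ := h2
  by_cases hb2 : b ∈ R2
  swap
  · exact QQ_le_of_mem hY hb (hYQ hb) hb1 hb2
  by_cases ha1 : a ∈ R1
  swap
  · exact QQ_le_of_mem hY ha (hYQ ha) ha1 ha2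
  have h3 : R1 ≤ Y := R1_le_of_mem hY ha ha1 (by rintro rfl; exact ha2 R2.one_mem)
    (by rintro rfl; exact ha2 zz_mem_R2)
  have h4 : R2 ≤ Y := R2_le_of_mem hY hb hb2 (by rintro rfl; exact hb1 R1.one_mem)
    (by rintro rfl; exact hb1 zz_mem_R1)
  intro g hg
  obtain ⟨a', ha', b', hb', rfl⟩ := exists_mul' hg
  exact Y.mul_mem (h3 ha') (h4 hb')

/-- 2-subgroups of `CC` normalised by `CC` are in `QQ` -/
theorem core {Y : Subgroup L5} (hYC : Y ≤ CC) (h2 : IsPGroup 2 Y)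
    (hY : ∀ p ∈ CC, ∀ y ∈ Y, p * y * p⁻¹ ∈ Y) : Y ≤ QQ := by
  have hn : (Y.subgroupOf CC).Normal := ⟨fun y hy p => hY p p.2 y hy⟩
  have hp : IsPGroup 2 (Y.subgroupOf CC) := h2.of_equiv (Subgroup.subgroupOfEquivOfLe hYC).symm
  have h3 : Y.subgroupOf CC ≤ Cfsg.pCore 2 CC := by
    exact Cfsg.Agent.Lib.Cores.le_pCore hn hp
  rw [pCore_CC] at h3
  intro y hy
  exact h3 (show (⟨y, hYC hy⟩ : CC) ∈ Y.subgroupOf CC from hy)

end Cfsg.Agent.KFacts.TwoSix.Normal
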