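import Mathlib

/-!
# The sheet of `P = 2^{1+6}:L3(2)`

`Half z P R E`: the facts about one of the two normal subgroups `E = 2^4` of `P`;
`Sheet z P R E E'`: all facts. `Sheet.im`: transport along an injective homomorphism `f : P →* G`.
-/

set_option autoImplicit false

namespace Cfsg.Agent.KFacts.TwoSix.SheetDef

open Subgroup

/-- `V` is a hyperplane of `E` -/
structure IsHyp {G : Type*} [Group G] (V E : Subgroup G) : Prop where
  le : V ≤ E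
  ne : V ≠ E
  mul : ∀ a ∈ E, a ∉ V → ∀ b ∈ E, b ∉ V → a * b ∈ V

/-- facts about `E = 2^4` normal in `P`, `R = O_2(P)`, `Z(P) = ⟨z⟩` -/
structure Half {G : Type*} [Group G] (z : G) (P R E : Subgroup G) : Prop where
  zE : z ∈ E
  ER : E ≤ R
  norE : ∀ p ∈ P, ∀ e ∈ E, p * e * p⁻¹ ∈ E
  cardE : Nat.card E = 16
  sqE : ∀ e ∈ E, e * e = 1
  comE : ∀ e ∈ E, ∀ e' ∈ E, e * e' = e' * e
  ne : R ≠ E
  /-- `C_P(E) = E` -/
  cE : ∀ p ∈ P, (∀ e ∈ E, p * e = e * p) → p ∈ E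
  /-- `C_P(E / ⟨z⟩) = R` -/
  qE : ∀ p ∈ P, (∀ e ∈ E, p * e * p⁻¹ * e⁻¹ = 1 ∨ p * e * p⁻¹ * e⁻¹ = z) → p ∈ R
  /-- `C_P(R / E) = R` -/
  tR : ∀ p ∈ P, (∀ r ∈ R, p * r * p⁻¹ * r⁻¹ ∈ E) → p ∈ R
  /-- `Z(P / E) = 1` -/
  cenE : ∀ p ∈ P, (∀ q ∈ P, p * q * p⁻¹ * q⁻¹ ∈ E) → p ∈ E
  pair : ∀ a ∈ E, ∀ r ∈ R, a * r * a⁻¹ * r⁻¹ = 1 ∨ a * r * a⁻¹ * r⁻¹ = z
  pairE : ∀ a ∈ E, a ≠ 1 → a ≠ z → ∃ r ∈ R, a * r * a⁻¹ * r⁻¹ = z
  pairR : ∀ r ∈ R, r ∉ E → ∃ a ∈ E, a * r * a⁻¹ * r⁻¹ = z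
  /-- `P` is transitive on `E - ⟨z⟩` -/
  trans : ∀ a ∈ E, a ≠ 1 → a ≠ z → ∀ b ∈ E, b ≠ 1 → b ≠ z → ∃ p ∈ P, p * a * p⁻¹ = b
  /-- `P` induces all transvections of `E` fixing `z` -/
  tv : ∀ V : Subgroup G, IsHyp V E → z ∈ V → ∀ a ∈ V, ∃ p ∈ P, (∀ v ∈ V, p * v * p⁻¹ = v) ∧
    ∀ v ∈ E, v ∉ V → p * v * p⁻¹ = v * a

/-- the sheet -/
structure Sheet {G : Type*} [Group G] (z : G) (P R E E' : Subgroup G) : Prop where
  z1 : z ≠ 1
  zz : z * z = 1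
  cz : ∀ p ∈ P, p * z = z * p
  cardP : Nat.card P = 21504
  perf : ⁅P, P⁆ = P
  RP : R ≤ P
  cardR : Nat.card R = 128
  norR : ∀ p ∈ P, ∀ r ∈ R, p * r * p⁻¹ ∈ R
  h1 : Half z P R E
  h2 : Half z P R E'
  inter : ∀ x ∈ E, x ∈ E' → x = 1 ∨ x = z
  mul : ∀ r ∈ R, ∃ a ∈ E, ∃ b ∈ E', r = a * b
  comR : ∀ r ∈ R, ∀ s ∈ R, r * s * r⁻¹ * s⁻¹ = 1 ∨ r * s * r⁻¹ * s⁻¹ = z
  sqR : ∀ r ∈ R, r * r = 1 ∨ r * r = z
  /-- `C_P(R) = ⟨z⟩` -/
  cR : ∀ p ∈ P, (∀ r ∈ R, p * r = r * p) → p = 1 ∨ p = z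
  /-- `Z(P / R) = 1` -/
  cenR : ∀ p ∈ P, (∀ q ∈ P, p * q * p⁻¹ * q⁻¹ ∈ R) → p ∈ R
  /-- `O_2(P) = R` -/
  core : ∀ Y ≤ P, IsPGroup 2 Y → (∀ p ∈ P, ∀ y ∈ Y, p * y * p⁻¹ ∈ Y) → Y ≤ R
  /-- the normal subgroups of `P` in `R` -/
  sub : ∀ Y ≤ R, (∀ p ∈ P, ∀ y ∈ Y, p * y * p⁻¹ ∈ Y) →
    (∀ y ∈ Y, y = 1 ∨ y = z) ∨ Y = E ∨ Y = E' ∨ Y = R
  /-- the centraliser in `P` of a subgroup of odd index in `P` -/
  syl : ∀ S ≤ P, IsPGroup 2 S → ¬ 2 ∣ S.relIndex P → ∀ p ∈ P, (∀ s ∈ S, p * s = s * p) →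
    p = 1 ∨ p = z

theorem Sheet.symm {G : Type*} [Group G] {z : G} {P R E E' : Subgroup G}
    (h : Sheet z P R E E') : Sheet z P R E' E :=
  { h with
    h1 := h.h2
    h2 := h.h1
    inter := fun x hx hx' => h.inter x hx' hx
    mul := fun r hr => by
      obtain ⟨a, ha, b, hb, rfl⟩ := h.mul r hr
      rcases h.h1.pair a ha b (h.h2.ER hb) with e | e
      · refine ⟨b, hb, a, ha, ?_⟩
        rwa [mul_inv_eq_one, mul_inv_eq_iff_eq_mul] at e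
      · refine ⟨z * b, E'.mul_mem h.h2.zE hb, a, ha, ?_⟩
        rw [mul_inv_eq_iff_eq_mul, mul_inv_eq_iff_eq_mul] at e
        exact e
    sub := fun Y hY hn => by
      rcases h.sub Y hY hn with e | e | e | e
      · exact Or.inl e
      · exact Or.inr (Or.inr (Or.inl e))
      · exact Or.inr (Or.inl e)
      · exact Or.inr (Or.inr (Or.inr e)) }

/-! ### Transport -/

section
variable {H G : Type*} [Group H] [Group G] {P : Subgroup H}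

/-- the image of `X ≤ P` -/
def im (f : P →* G) (X : Subgroup H) : Subgroup G := (X.subgroupOf P).map f

theorem mem_im {f : P →* G} {X : Subgroup H} {g : G} :
    g ∈ im f X ↔ ∃ p : P, (p : H) ∈ X ∧ f p = g := Iff.rfl

theorem im_mono (f : P →* G) {X Y : Subgroup H} (h : X ≤ Y) : im f X ≤ im f Y := by
  rintro _ ⟨p, hp, rfl⟩
  exact ⟨p, h hp, rfl⟩

theorem f_mem_im {f : P →* G} (hf : Function.Injective f) {X : Subgroup H} {p : P} :
    f p ∈ im f X ↔ (p : H) ∈ X := by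
  constructor
  · rintro ⟨q, hq, e⟩
    rw [← hf e]; exact hq
  · intro h; exact ⟨p, h, rfl⟩

theorem card_im {f : P →* G} (hf : Function.Injective f) {X : Subgroup H} (hX : X ≤ P) :
    Nat.card (im f X) = Nat.card X := by
  unfold im
  rw [Subgroup.card_map_of_injective hf, Nat.card_congr (Subgroup.subgroupOfEquivOfLe hX).toEquiv]

theorem im_self (f : P →* G) : im f P = f.range := by
  unfold im
  rw [Subgroup.subgroupOf_self, MonoidHom.range_eq_map]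

/-- the preimage of `Y` in `P` -/
def pre (f : P →* G) (Y : Subgroup G) : Subgroup H := (Y.comap f).map P.subtype

theorem mem_pre {f : P →* G} {Y : Subgroup G} {p : P} : (p : H) ∈ pre f Y ↔ f p ∈ Y := by
  constructor
  · rintro ⟨q, hq, e⟩
    rw [← Subtype.ext e]; exact hq
  · intro h; exact ⟨p, h, rfl⟩

theorem pre_le (f : P →* G) (Y : Subgroup G) : pre f Y ≤ P := by
  rintro _ ⟨q, -, rfl⟩
  exact q.2

theorem im_pre {f : P →* G} {Y : Subgroup G} (hY : Y ≤ f.range) : im f (pre f Y) = Y := by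
  ext g
  rw [mem_im]
  constructor
  · rintro ⟨p, hp, rfl⟩
    exact mem_pre.1 hp
  · intro hg
    obtain ⟨p, rfl⟩ := hY hg
    exact ⟨p, mem_pre.2 hg, rfl⟩

theorem im_le_range (f : P →* G) (X : Subgroup H) : im f X ≤ f.range := by
  rintro _ ⟨p, -, rfl⟩
  exact ⟨p, rfl⟩

theorem conj_pre {f : P →* G} {Y : Subgroup G} (h : ∀ p ∈ f.range, ∀ y ∈ Y, p * y * p⁻¹ ∈ Y) :
    ∀ p ∈ P, ∀ y ∈ pre f Y, p * y * p⁻¹ ∈ pre f Y := by
  rintro p hp _ ⟨y, hy, rfl⟩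
  have h1 := h (f ⟨p, hp⟩) ⟨_, rfl⟩ (f y) hy
  rw [← map_inv, ← map_mul, ← map_mul] at h1
  exact mem_pre.2 h1

variable {z : H} {R E E' : Subgroup H} {f : P →* G}

theorem eqv {f : P →* G} (hf : Function.Injective f) {a b : P} : f a = f b ↔ (a : H) = b :=
  ⟨fun h => by rw [hf h], fun h => by rw [Subtype.ext h]⟩

theorem Half.im (h : Half z P R E) (hz : z ∈ P) (hRP : R ≤ P) (hf : Function.Injective f) :
    Half (f ⟨z, hz⟩) f.range (im f R) (im f E) where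
  zE := ⟨⟨z, hz⟩, h.zE, rfl⟩
  ER := im_mono f h.ER
  norE := by
    rintro _ ⟨p, rfl⟩ _ ⟨e, he, rfl⟩
    exact ⟨p * e * p⁻¹, h.norE p p.2 e he, by simp⟩
  cardE := by rw [card_im hf (h.ER.trans hRP), h.cardE]
  sqE := by
    rintro _ ⟨e, he, rfl⟩
    rw [← map_mul, ← map_one f, eqv hf]
    exact h.sqE e he
  comE := by
    rintro _ ⟨e, he, rfl⟩ _ ⟨e', he', rfl⟩
    rw [← map_mul, ← map_mul, eqv hf]
    exact h.comE e he e' he'
  ne := by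
    intro h1
    apply h.ne
    apply le_antisymm _ h.ER
    intro r hr
    have h2 : f ⟨r, hRP hr⟩ ∈ SheetDef.im f R := ⟨_, hr, rfl⟩
    rw [h1] at h2
    exact (f_mem_im hf).1 h2
  cE := by
    rintro _ ⟨p, rfl⟩ hp
    refine ⟨p, h.cE p p.2 ?_, rfl⟩
    intro e he
    have h1 := hp (f ⟨e, hRP (h.ER he)⟩) ⟨_, he, rfl⟩
    rw [← map_mul, ← map_mul, eqv hf] at h1
    exact h1
  qE := by
    rintro _ ⟨p, rfl⟩ hp
    refine ⟨p, h.qE p p.2 ?_, rfl⟩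
    intro e he
    have h1 := hp (f ⟨e, hRP (h.ER he)⟩) ⟨_, he, rfl⟩
    rw [← map_inv, ← map_inv, ← map_mul, ← map_mul, ← map_mul, ← map_one f, eqv hf, eqv hf] at h1
    exact h1
  tR := by
    rintro _ ⟨p, rfl⟩ hp
    refine ⟨p, h.tR p p.2 ?_, rfl⟩
    intro r hr
    have h1 := hp (f ⟨r, hRP hr⟩) ⟨_, hr, rfl⟩
    rw [← map_inv, ← map_inv, ← map_mul, ← map_mul, ← map_mul, f_mem_im hf] at h1
    exact h1
  cenE := by
    rintro _ ⟨p, rfl⟩ hp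
    refine ⟨p, h.cenE p p.2 ?_, rfl⟩
    intro q hq
    have h1 := hp (f ⟨q, hq⟩) ⟨_, rfl⟩
    rw [← map_inv, ← map_inv, ← map_mul, ← map_mul, ← map_mul, f_mem_im hf] at h1
    exact h1
  pair := by
    rintro _ ⟨a, ha, rfl⟩ _ ⟨r, hr, rfl⟩
    rw [← map_inv, ← map_inv, ← map_mul, ← map_mul, ← map_mul, ← map_one f, eqv hf, eqv hf]
    exact h.pair a ha r hr
  pairE := by
    rintro _ ⟨a, ha, rfl⟩ h1 h2
    rw [← map_one f, Ne, eqv hf] at h1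
    rw [Ne, eqv hf] at h2
    obtain ⟨r, hr, e⟩ := h.pairE a ha h1 h2
    refine ⟨f ⟨r, hRP hr⟩, ⟨_, hr, rfl⟩, ?_⟩
    rw [← map_inv, ← map_inv, ← map_mul, ← map_mul, ← map_mul, eqv hf]
    exact e
  pairR := by
    rintro _ ⟨r, hr, rfl⟩ h1
    rw [f_mem_im hf] at h1
    obtain ⟨a, ha, e⟩ := h.pairR r hr h1
    refine ⟨f ⟨a, hRP (h.ER ha)⟩, ⟨_, ha, rfl⟩, ?_⟩
    rw [← map_inv, ← map_inv, ← map_mul, ← map_mul, ← map_mul, eqv hf]
    exact e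
  trans := by
    rintro _ ⟨a, ha, rfl⟩ ha1 haz _ ⟨b, hb, rfl⟩ hb1 hbz
    rw [← map_one f, Ne, eqv hf] at ha1 hb1
    rw [Ne, eqv hf] at haz hbz
    obtain ⟨p, hp, e⟩ := h.trans a ha ha1 haz b hb hb1 hbz
    refine ⟨f ⟨p, hp⟩, ⟨_, rfl⟩, ?_⟩
    rw [← map_inv, ← map_mul, ← map_mul, eqv hf]
    exact e
  tv := by
    intro V hV hzV a ha
    have hVr : V ≤ f.range := hV.le.trans (im_le_range f E)
    have h1 : IsHyp (pre f V) E := by
      refine ⟨?_, ?_, ?_⟩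
      · rintro _ ⟨v, hv, rfl⟩
        exact (f_mem_im hf).1 (hV.le hv)
      · intro h2
        apply hV.ne
        rw [← im_pre hVr, h2]
      · intro a ha ha' b hb hb'
        have haP := hRP (h.ER ha)
        have hbP := hRP (h.ER hb)
        have h3 := hV.mul (f ⟨a, haP⟩) ⟨_, ha, rfl⟩ (fun h4 => ha' (mem_pre (p := ⟨a, haP⟩).2 h4))
          (f ⟨b, hbP⟩) ⟨_, hb, rfl⟩ (fun h4 => hb' (mem_pre (p := ⟨b, hbP⟩).2 h4))
        rw [← map_mul] at h3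
        exact mem_pre.2 h3
    obtain ⟨a, rfl⟩ := hVr ha
    obtain ⟨p, hp, h2, h3⟩ := h.tv (pre f V) h1 (mem_pre (p := ⟨z, hz⟩).2 hzV) a (mem_pre.2 ha)
    refine ⟨f ⟨p, hp⟩, ⟨_, rfl⟩, ?_, ?_⟩
    · intro v hv
      obtain ⟨v, rfl⟩ := hVr hv
      rw [← map_inv, ← map_mul, ← map_mul, eqv hf]
      exact h2 v (mem_pre.2 hv)
    · rintro _ ⟨v, hv, rfl⟩ hv'
      rw [← map_inv, ← map_mul, ← map_mul, ← map_mul, eqv hf]
      exact h3 v hv (fun h4 => hv' (mem_pre.1 h4))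

theorem Sheet.zP (h : Sheet z P R E E') : z ∈ P := h.RP (h.h1.ER h.h1.zE)

/-- **Transport of the sheet** along an injective homomorphism `f : P →* G`. -/
theorem Sheet.im (h : Sheet z P R E E') (hf : Function.Injective f) :
    Sheet (f ⟨z, h.zP⟩) f.range (im f R) (im f E) (im f E') where
  z1 := by
    rw [← map_one f, Ne, eqv hf]; exact h.z1
  zz := by
    rw [← map_mul, ← map_one f, eqv hf]; exact h.zz
  cz := by
    rintro _ ⟨p, rfl⟩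
    rw [← map_mul, ← map_mul, eqv hf]; exact h.cz p p.2
  cardP := by
    rw [← im_self, card_im hf le_rfl, h.cardP]
  perf := by
    have h1 : ⁅(⊤ : Subgroup P), (⊤ : Subgroup P)⁆ = ⊤ := by
      apply Subgroup.map_injective P.subtype_injective
      rw [Subgroup.map_commutator, ← MonoidHom.range_eq_map, P.range_subtype, h.perf]
    rw [MonoidHom.range_eq_map, ← Subgroup.map_commutator, h1]
  RP := im_le_range f R
  cardR := by rw [card_im hf h.RP, h.cardR]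
  norR := by
    rintro _ ⟨p, rfl⟩ _ ⟨e, he, rfl⟩
    exact ⟨p * e * p⁻¹, h.norR p p.2 e he, by simp⟩
  h1 := h.h1.im h.zP h.RP hf
  h2 := h.h2.im h.zP h.RP hf
  inter := by
    rintro _ ⟨x, hx, rfl⟩ hx'
    rw [f_mem_im hf] at hx'
    rw [← map_one f, eqv hf, eqv hf]
    exact h.inter x hx hx'
  mul := by
    rintro _ ⟨r, hr, rfl⟩
    obtain ⟨a, ha, b, hb, e⟩ := h.mul r hr
    refine ⟨f ⟨a, h.RP (h.h1.ER ha)⟩, ⟨_, ha, rfl⟩, f ⟨b, h.RP (h.h2.ER hb)⟩, ⟨_, hb, rfl⟩, ?_⟩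
    rw [← map_mul, eqv hf]
    exact e
  comR := by
    rintro _ ⟨r, hr, rfl⟩ _ ⟨s, hs, rfl⟩
    rw [← map_inv, ← map_inv, ← map_mul, ← map_mul, ← map_mul, ← map_one f, eqv hf, eqv hf]
    exact h.comR r hr s hs
  sqR := by
    rintro _ ⟨r, hr, rfl⟩
    rw [← map_mul, ← map_one f, eqv hf, eqv hf]
    exact h.sqR r hr
  cR := by
    rintro _ ⟨p, rfl⟩ hp
    rw [← map_one f, eqv hf, eqv hf]
    apply h.cR p p.2
    intro r hr
    have h1 := hp (f ⟨r, h.RP hr⟩) ⟨_, hr, rfl⟩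
    rw [← map_mul, ← map_mul, eqv hf] at h1
    exact h1
  cenR := by
    rintro _ ⟨p, rfl⟩ hp
    refine ⟨p, h.cenR p p.2 ?_, rfl⟩
    intro q hq
    have h1 := hp (f ⟨q, hq⟩) ⟨_, rfl⟩
    rw [← map_inv, ← map_inv, ← map_mul, ← map_mul, ← map_mul, f_mem_im hf] at h1
    exact h1
  core := by
    intro Y hY h2 hn
    have h3 := h.core (pre f Y) (pre_le f Y) ((h2.comap_of_injective f hf).map P.subtype) (conj_pre hn)
    rw [← im_pre hY]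
    exact im_mono f h3
  sub := by
    intro Y hY hn
    have hYr : Y ≤ f.range := hY.trans (im_le_range f R)
    have h1 : pre f Y ≤ R := by
      rintro _ ⟨y, hy, rfl⟩
      exact (f_mem_im hf).1 (hY hy)
    rcases h.sub (pre f Y) h1 (conj_pre hn) with e | e | e | e
    · left
      intro y hy
      obtain ⟨y, rfl⟩ := hYr hy
      rw [← map_one f, eqv hf, eqv hf]
      exact e y (mem_pre.2 hy)
    · right; left; rw [← im_pre hYr, e]
    · right; right; left; rw [← im_pre hYr, e]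
    · right; right; right; rw [← im_pre hYr, e]
  syl := by
    rintro S hS h2 hodd _ ⟨p, rfl⟩ hp
    rw [← map_one f, eqv hf, eqv hf]
    apply h.syl (pre f S) (pre_le f S) ((h2.comap_of_injective f hf).map P.subtype) _ p p.2
    · rintro _ ⟨s, hs, rfl⟩
      have h1 := hp (f s) hs
      rw [← map_mul, ← map_mul, eqv hf] at h1
      exact h1
    · have e1 : (pre f S).subgroupOf P = S.comap f := by
        ext s
        exact mem_pre
      rw [Subgroup.relIndex, e1, Subgroup.index_comap]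
      exact hodd

end

end Cfsg.Agent.KFacts.TwoSix.SheetDef
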